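/-
Kernel checks for the Sylow 2-subgroup of the double cover of the Rudvalis group.
-/
import Cfsg.Agent.Lib.StdRu.Data
import Cfsg.Agent.Lib.RuMult.CertData
import Cfsg.Agent.Lib.RuMult.Tabs
import Cfsg.Agent.Lib.RuMult.Words

set_option autoImplicit false
set_option maxRecDepth 100000
set_option exponentiation.threshold 40000

namespace CfsgLib.StdRu

open CfsgLib.StemSylow.Collect

/-- The adapted presentation. -/
def ruP : Pres := ⟨15, Data.tab⟩

/-- A word of the basis in the collected generators. -/
def flatW (l : List ℕ) : List ℕ := l.flatMap fun k => Data.newW.getD k []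

/-- Both old words collect to the same normal word. -/
noncomputable def oldSame (C : Cert) (v w : List ℕ) : Bool :=
  match C.collect C.fuel [] v, C.collect C.fuel [] w with
  | some (a, _), some (b, _) => decide (a = b)
  | _, _ => false

/-- Both words collect to normal words with the same first part. -/
def congrB (P : Pres) (k : ℕ) (v w : List ℕ) : Bool :=
  match P.run v, P.run w with
  | some a, some b => P.normalFrom 0 a && P.normalFrom 0 b && decide (Pres.cut k a = Pres.cut k b)
  | _, _ => false

/-- One link of the fusion forest. -/
noncomputable def edgeOK (C : Cert) (e : List ℕ × List ℕ × ℕ × List ℕ) : Bool :=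
  ruP.normalFrom 0 e.1 && ruP.normalFrom 0 e.2.1 &&
    match e.2.2.2 with
    | [] => Nat.blt e.2.2.1 15 && ruP.same (e.2.2.1 :: e.1) (e.2.1 ++ [e.2.2.1])
    | m :: l => C.sameT (C.fact m).1 (m :: l) && oldSame C (C.qcat (m :: l)) (flatW e.1) &&
        oldSame C (C.pcat (m :: l)) (flatW e.2.1)

/-- The code of a word. -/
def code (l : List ℕ) : ℕ := l.foldr (fun k a => 2 ^ k + a) 0

/-- Each link reaches something known; known codes are kept as bits. -/
noncomputable def forest : List (List ℕ × List ℕ × ℕ × List ℕ) → ℕ → Option ℕ
  | [], known => some known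
  | e :: es, known =>
    bif Nat.testBit known (code e.1) || Nat.testBit known (code e.2.1) then
      forest es (Nat.lor (Nat.lor known (2 ^ code e.1)) (2 ^ code e.2.1))
    else none

/-- The test of a possible involution. -/
def invTest (k : ℕ) (u : List ℕ) : Bool := ruP.liesIn k (u ++ u)

/-- One step of the search for involutions. -/
def invStep (k : ℕ) (L : List (List ℕ)) : List (List ℕ) :=
  L.flatMap fun u => [u, u ++ [k]].filter (invTest (k + 1))

/-- The last three steps end among the known involutions. -/
noncomputable def invLast (L : List (List ℕ)) : Bool :=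
  (invStep 14 (invStep 13 (invStep 12 L))).all fun u =>
    Nat.beq (code u) 0 || Nat.beq (code u) (code [14]) || Nat.testBit Data.invMask (code u)

/-- The prefixes of possible central elements. -/
def cenTree : List (List ℕ) :=
  Pres.tree (fun k u => [0, 1, 2].all fun i => ruP.agree k (u ++ [i]) (i :: u)) 15

/-- The prefixes of possible square roots of the centre in the second commutator term. -/
def rootTree : List (List ℕ) :=
  Pres.tree (fun k u => u.all (fun x => Nat.ble 6 x) && ruP.agree k (u ++ u) [14]) 15

/-- The commutator of the first two generators and its inverse. -/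
def comW : List ℕ × List ℕ :=
  ([0, 1] ++ Data.invW.getD 0 [] ++ Data.invW.getD 1 [], [1, 0] ++ Data.invW.getD 1 [] ++ Data.invW.getD 0 [])

/-- Two elements of the second commutator term. -/
def rootA : List ℕ := comW.1 ++ [0] ++ comW.2 ++ Data.invW.getD 0 []

/-- The other element. -/
def rootB : List ℕ := comW.1 ++ [0, 1] ++ comW.2 ++ (Data.invW.getD 1 [] ++ Data.invW.getD 0 [])

theorem shape_ok : ruP.shapeOK = true := by decide +kernel

theorem rels_ok : ((List.range 15).all fun i => (List.range 15).all fun j =>
    Nat.blt j i || oldSame RuMult.certTwo (flatW [j, i]) (flatW (ruP.rhs i j))) = true := by decide +kernel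

theorem gens_ok' : ((List.range 15).all fun k =>
    oldSame RuMult.certTwo [k] (flatW (Data.oldV.getD k [])) &&
      (Data.oldV.getD k []).all (fun x => Nat.blt x 15) && (Data.newW.getD k []).all (fun x => Nat.blt x 15) &&
      ruP.same [k] (Data.threeW.getD k []) && (Data.threeW.getD k []).all (fun x => Nat.blt x 3) &&
      (Data.invW.getD k []).all (fun x => Nat.blt x 15) &&
      ruP.same (Data.invW.getD k [] ++ [k]) []) = true ∧
    oldSame RuMult.certTwo (flatW [14]) [14] = true := by decide +kernel

theorem class_two : (([([0, 1], 2), ([0, 2], 4), ([1, 2], 5)] : List (List ℕ × ℕ)).all fun p =>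
    let c := (ruP.rhs (p.1.getD 0 0) (p.1.getD 1 0)).tail.tail
    [0, 1, 2].all fun k => congrB ruP 6 (c ++ [k]) (k :: c)) = true := by decide +kernel

theorem cen_ok : (cenTree.all fun u =>
    Nat.beq (code u) 0 || Nat.beq (code u) (code [13]) || Nat.beq (code u) (code [14]) ||
      Nat.beq (code u) (code [13, 14])) = true ∧
    ([13, 14].all fun j => [0, 1, 2].all fun i => ruP.same [j, i] [i, j]) = true ∧
    ruP.same [13, 13] [] = true ∧ ruP.same [14, 14] [] = true := by decide +kernel

theorem root_ok : rootTree.isEmpty = true ∧ ruP.same (rootA ++ rootA) [13] = true ∧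
    ruP.same (rootB ++ rootB) [13, 14] = true := by decide +kernel

theorem forest_ok : (forest Data.edges (Nat.lor (2 ^ code [13]) (2 ^ code [13, 14]))).elim false
    (Nat.beq Data.invMask) = true := by decide +kernel

theorem inv_twelve : (Pres.tree invTest 12 == Data.invTwelve) = true := by decide +kernel

theorem inv_last0 : invLast (Data.invTwelve.take 108) = true := by decide +kernel
theorem inv_last1 : invLast ((Data.invTwelve.drop 108).take 108) = true := by decide +kernel
theorem inv_last2 : invLast ((Data.invTwelve.drop 216).take 108) = true := by decide +kernel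
theorem inv_last3 : invLast (Data.invTwelve.drop 324) = true := by decide +kernel

theorem edges0_ok : Data.edges0.all (edgeOK RuMult.certTwo) = true := by decide +kernel
theorem edges1_ok : Data.edges1.all (edgeOK RuMult.certTwo) = true := by decide +kernel
theorem edges2_ok : Data.edges2.all (edgeOK RuMult.certTwo) = true := by decide +kernel
theorem edges3_ok : Data.edges3.all (edgeOK RuMult.certTwo) = true := by decide +kernel

theorem central_tab : RuMult.sameW RuMult.tabs [RuMult.giTwo.getD 14 0] [0, 0] = true := by decide +kernel

end CfsgLib.StdRu
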