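/-
The double cover of the Rudvalis group: uniqueness and automorphisms.
-/
import Cfsg.Agent.Lib.RuMult.Main
import Cfsg.Agent.Lib.RuLattice.Out

set_option autoImplicit false
set_option linter.unusedSectionVars false
set_option linter.style.haveILetI false

namespace CfsgLib.StdRu

open Subgroup Cfsg.Spor CfsgLib.RuMult
open scoped commutatorElement

universe u

/-- A finite group in any universe has a copy among the small types. -/
theorem exists_small (A : Type u) [Group A] [Finite A] :
    ∃ (B : Type) (_ : Group B) (_ : Finite B), Nonempty (A ≃* B) := by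
  exact ⟨Shrink.{0} A, inferInstance, inferInstance, ⟨(Shrink.mulEquiv).symm⟩⟩

theorem cover_small (H : RuMult.Facts) (A : Type) [Group A] [Finite A] (hperf : _root_.commutator A = ⊤)
    (hZ : Nat.card ↥(Subgroup.center A) = 2) (e : A ⧸ Subgroup.center A ≃* Ru) : Nonempty (DRu ≃* A) := by
  classical
  haveI := finite_fourRu H
  let θ : DRu →* Ru :=
    (QuotientGroup.mk' (Subgroup.center ↥fourRu)).comp (_root_.commutator ↥fourRu).subtype
  have hθs : Function.Surjective θ := fun y => by
    obtain ⟨g, rfl⟩ := QuotientGroup.mk'_surjective (Subgroup.center ↥fourRu) y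
    obtain ⟨d, hd, k, rfl⟩ := decomp H g
    refine ⟨⟨d, hd⟩, ?_⟩
    show QuotientGroup.mk' (Subgroup.center ↥fourRu) d = _
    rw [map_mul, show QuotientGroup.mk' (Subgroup.center ↥fourRu) (iU ^ k) = 1 from
      (QuotientGroup.eq_one_iff _).mpr (pow_mem iU_mem_center k), mul_one]
  let σ : A →* Ru := e.toMonoidHom.comp (QuotientGroup.mk' (Subgroup.center A))
  have hσs : Function.Surjective σ := e.surjective.comp (QuotientGroup.mk'_surjective _)
  have hσc : σ.ker ≤ Subgroup.center A := fun x hx => (QuotientGroup.eq_one_iff x).mp (e.map_eq_one_iff.mp hx)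
  let S : Subgroup (A × DRu) := (σ.comp (MonoidHom.fst _ _)).eqLocus (θ.comp (MonoidHom.snd _ _))
  let q : S →* DRu := (MonoidHom.snd _ _).comp S.subtype
  have hq : Function.Surjective q := fun d => by
    obtain ⟨g, hg⟩ := hσs (θ d)
    exact ⟨⟨(g, d), hg⟩, rfl⟩
  have hqc : q.ker ≤ Subgroup.center S := by
    rintro ⟨⟨g, d⟩, hm⟩ hd
    have hd' : d = 1 := hd
    subst hd'
    have hg : g ∈ Subgroup.center A := hσc ((show σ g = θ 1 from hm).trans (map_one θ))
    rw [Subgroup.mem_center_iff]
    rintro ⟨⟨g', d'⟩, hm'⟩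
    exact Subtype.ext (Prod.ext (Subgroup.mem_center_iff.mp hg g') (by simp))
  obtain ⟨s, hs⟩ := exists_section (commutator_perfect H) (fun _ _ _ _ h => stem_ker H h) q hq hqc
  let τ : DRu →* A := ((MonoidHom.fst _ _).comp S.subtype).comp s
  have hτ : ∀ d, σ (τ d) = θ d := fun d => by
    have h1 : σ (s d).1.1 = θ (s d).1.2 := (s d).2
    rwa [show (s d).1.2 = d from hs d] at h1
  have hsurj : Function.Surjective τ := by
    refine MonoidHom.range_eq_top.mp (eq_top_iff.mpr ?_)
    rw [← hperf, _root_.commutator_def, Subgroup.commutator_le]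
    intro a _ b _
    obtain ⟨a', ha⟩ := hθs (σ a)
    obtain ⟨b', hb⟩ := hθs (σ b)
    refine ⟨⁅a', b'⁆, ?_⟩
    rw [map_commutatorElement]
    exact CfsgLib.StSL.comm_congr hσc ((hτ a').trans ha) ((hτ b').trans hb)
  have hcard : Nat.card DRu = Nat.card A := by
    rw [Subgroup.card_eq_card_quotient_mul_card_subgroup (Subgroup.center A), hZ, Nat.card_congr e.toEquiv,
      H.ru_card, card_commutator H]
  exact ⟨MulEquiv.ofBijective τ ((Nat.bijective_iff_surjective_and_card τ).mpr ⟨hsurj, hcard⟩)⟩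

/-- A perfect group with centre of order two and central quotient Ru is the double cover. -/
theorem cover_iso (H : RuMult.Facts) {A : Type u} [Group A] [Finite A] (hperf : _root_.commutator A = ⊤)
    (hZ : Nat.card ↥(Subgroup.center A) = 2) (e : A ⧸ Subgroup.center A ≃* Ru) : Nonempty (DRu ≃* A) := by
  obtain ⟨B, _, _, ⟨f⟩⟩ := exists_small A
  have hc : (Subgroup.center A).map f.toMonoidHom = Subgroup.center B := by
    ext b
    rw [mem_center_iff]
    constructor
    · rintro ⟨a, ha, rfl⟩ c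
      obtain ⟨d, rfl⟩ := f.surjective c
      show f d * f a = f a * f d
      rw [← map_mul, ← map_mul, mem_center_iff.mp ha d]
    · intro hb
      obtain ⟨a, rfl⟩ := f.surjective b
      exact ⟨a, mem_center_iff.mpr fun d => f.injective (by rw [map_mul, map_mul]; exact hb (f d)), rfl⟩
  have hpB : _root_.commutator B = ⊤ := by
    rw [_root_.commutator_def, ← Subgroup.map_top_of_surjective f.toMonoidHom f.surjective, ← map_commutator,
      ← _root_.commutator_def, hperf]
  have hZB : Nat.card ↥(Subgroup.center B) = 2 := by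
    rw [← hc, ← hZ]
    exact Nat.card_congr ((Subgroup.center A).equivMapOfInjective _ f.injective).symm.toEquiv
  obtain ⟨g⟩ := cover_small H B hpB hZB ((QuotientGroup.congr _ _ f hc).symm.trans e)
  exact ⟨g.trans f.symm⟩

/-- Every element normalising a double cover of Ru acts on it as one of its elements. -/
theorem norm_dec {G : Type u} [Group G] {A : Subgroup G} (hperf : _root_.commutator ↥A = ⊤)
    (e : ↥A ⧸ Subgroup.center ↥A ≃* Ru) {n : G} (hn : n ∈ normalizer (A : Set G)) :
    ∃ a ∈ A, ∃ k ∈ centralizer (A : Set G), n = a * k := by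
  let φ : MulAut ↥A :=
    { toFun := fun l => ⟨n * l * n⁻¹, (mem_normalizer_iff.mp hn _).mp l.2⟩
      invFun := fun l => ⟨n⁻¹ * l * n, (mem_normalizer_iff''.mp hn _).mp l.2⟩
      left_inv := fun l => Subtype.ext (by simp [mul_assoc])
      right_inv := fun l => Subtype.ext (by simp [mul_assoc])
      map_mul' := fun l m => Subtype.ext (by simp [mul_assoc]) }
  have hc : (Subgroup.center ↥A).map φ.toMonoidHom = Subgroup.center ↥A := by
    ext b
    rw [mem_center_iff]
    constructor
    · rintro ⟨a, ha, rfl⟩ c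
      obtain ⟨d, rfl⟩ := φ.surjective c
      show φ d * φ a = φ a * φ d
      rw [← map_mul, ← map_mul, mem_center_iff.mp ha d]
    · intro hb
      obtain ⟨a, rfl⟩ := φ.surjective b
      exact ⟨a, mem_center_iff.mpr fun d => φ.injective (by rw [map_mul, map_mul]; exact hb (φ d)), rfl⟩
  obtain ⟨q, hq⟩ := RuLattice.inner_transport (e.trans RuLattice.ruEquiv) RuLattice.inner_RuH
    (QuotientGroup.congr _ _ φ hc)
  obtain ⟨a, rfl⟩ := QuotientGroup.mk'_surjective (Subgroup.center ↥A) q
  have hmod : ∀ x : ↥A, (a * x * a⁻¹)⁻¹ * φ x ∈ Subgroup.center ↥A := fun x => by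
    refine QuotientGroup.eq.mp ?_
    have := congrArg (fun β : MulAut (↥A ⧸ Subgroup.center ↥A) => β x) hq
    exact this
  let ψ : ↥A →* ↥(Subgroup.center ↥A) :=
    MonoidHom.mk' (fun x => ⟨(a * x * a⁻¹)⁻¹ * φ x, hmod x⟩) fun x y => Subtype.ext (by
      show (a * (x * y) * a⁻¹)⁻¹ * φ (x * y) = (a * x * a⁻¹)⁻¹ * φ x * ((a * y * a⁻¹)⁻¹ * φ y)
      have hz := mem_center_iff.mp (hmod x) ((a * y * a⁻¹)⁻¹)
      rw [← mul_assoc _ ((a * y * a⁻¹)⁻¹), ← hz, map_mul]
      group)
  have hψ : ∀ x, ψ x = 1 := by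
    have : _root_.commutator ↥A ≤ ψ.ker := by
      rw [_root_.commutator_def, Subgroup.commutator_le]
      intro x _ y _
      rw [MonoidHom.mem_ker, map_commutatorElement, commutatorElement_eq_one_iff_mul_comm]
      exact Subtype.ext ((mem_center_iff.mp (ψ x).2 (ψ y : ↥A)).symm)
    exact fun x => MonoidHom.mem_ker.mp (this (hperf ▸ mem_top x))
  refine ⟨a, a.2, (a : G)⁻¹ * n, mem_centralizer_iff.mpr fun l hl => ?_, by group⟩
  have h1 := congrArg Subtype.val (hψ ⟨l, hl⟩)
  have h2 : φ ⟨l, hl⟩ = a * ⟨l, hl⟩ * a⁻¹ := (inv_mul_eq_one.mp h1).symm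
  have h3 : n * l * n⁻¹ = (a : G) * l * (a : G)⁻¹ := congrArg Subtype.val h2
  calc l * ((a : G)⁻¹ * n) = (a : G)⁻¹ * ((a : G) * l * (a : G)⁻¹) * n := by group
    _ = (a : G)⁻¹ * (n * l * n⁻¹) * n := by rw [h3]
    _ = (a : G)⁻¹ * n * l := by group

end CfsgLib.StdRu
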