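/-
Isolation of the centre of a component whose centraliser has cyclic Sylow 2-subgroups, when every involution of
the component is central or conjugate to one of two elements of the centre of a Sylow 2-subgroup that are squares
in its second commutator term, while the central involution is not.
-/
import Cfsg.Prelude.Def_IsolatedElements
import Mathlib

set_option autoImplicit false
set_option linter.unusedSectionVars false
set_option linter.style.haveILetI false

namespace CfsgLib.StdRu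

open Subgroup
open scoped commutatorElement Pointwise

universe u

variable {G : Type u} [Group G] [Finite G]

/-- The data. -/
structure Cfg (G : Type u) [Group G] [Finite G] where
  /-- The component. -/
  A : Subgroup G
  /-- Its central involution. -/
  z : G
  zA : z ∈ A
  z_ne : z ≠ 1
  z_sq : z * z = 1
  z_cent : ∀ a ∈ A, a * z = z * a
  dec : ∀ n : G, n * z = z * n → ∃ a ∈ A, ∃ k ∈ centralizer (A : Set G), n = a * k
  inter : ∀ a ∈ A, a ∈ centralizer (A : Set G) → a = 1 ∨ a = z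
  inv_K : ∀ k ∈ centralizer (A : Set G), k * k = 1 → k = 1 ∨ k = z
  cyc : ∀ R : Sylow 2 ↥(centralizer (A : Set G)), IsCyclic ↥(R : Subgroup ↥(centralizer (A : Set G)))
  /-- A Sylow 2-subgroup of the component. -/
  Q : Sylow 2 ↥A
  /-- The first central involution of the Sylow 2-subgroup. -/
  c : G
  /-- The second one. -/
  d : G
  c_sq : c * c = 1
  zc : z * c = d
  c_ne : c ≠ z
  d_ne : d ≠ z
  c_mem : c ∈ (Q : Subgroup ↥A).map A.subtype
  centre : ∀ s ∈ (Q : Subgroup ↥A).map A.subtype, (∀ u ∈ (Q : Subgroup ↥A).map A.subtype, s * u = u * s) →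
    s = 1 ∨ s = z ∨ s = c ∨ s = d
  c_cen : ∀ u ∈ (Q : Subgroup ↥A).map A.subtype, c * u = u * c
  classes : ∀ y ∈ A, y * y = 1 → y ≠ 1 → y ≠ z → ∃ a ∈ A, a * y * a⁻¹ = c ∨ a * y * a⁻¹ = d
  c_root : ∃ y ∈ ⁅⁅(Q : Subgroup ↥A).map A.subtype, (Q : Subgroup ↥A).map A.subtype⁆,
    (Q : Subgroup ↥A).map A.subtype⁆, y * y = c
  d_root : ∃ y ∈ ⁅⁅(Q : Subgroup ↥A).map A.subtype, (Q : Subgroup ↥A).map A.subtype⁆,
    (Q : Subgroup ↥A).map A.subtype⁆, y * y = d
  z_no_root : ∀ y ∈ ⁅⁅(Q : Subgroup ↥A).map A.subtype, (Q : Subgroup ↥A).map A.subtype⁆,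
    (Q : Subgroup ↥A).map A.subtype⁆, y * y ≠ z

namespace Cfg

variable (D : Cfg G)

theorem K_comm {a k : G} (ha : a ∈ D.A) (hk : k ∈ centralizer (D.A : Set G)) : Commute a k :=
  mem_centralizer_iff.mp hk a ha

theorem K_z {k : G} (hk : k ∈ centralizer (D.A : Set G)) : k * D.z = D.z * k := (D.K_comm D.zA hk).symm.eq

theorem z_mem_K : D.z ∈ centralizer (D.A : Set G) := mem_centralizer_iff.mpr fun a ha => D.z_cent a ha

/-- A conjugate of the centre outside the component forces one inside. -/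
theorem outside {x g : G} (hg : g * x * g⁻¹ = D.z) (hx : x * D.z = D.z * x) (hxA : x ∉ D.A) :
    g * D.z * g⁻¹ ∈ D.A ∧ g * D.z * g⁻¹ ≠ D.z := by
  haveI : Fact (Nat.Prime 2) := ⟨Nat.prime_two⟩
  set K := centralizer (D.A : Set G)
  refine ⟨?_, fun e => hxA ((mul_left_cancel (mul_right_cancel (hg.trans e.symm))) ▸ D.zA)⟩
  have hx2 : x * x = 1 := by
    rw [show x = g⁻¹ * D.z * g by rw [← hg]; group,
      show g⁻¹ * D.z * g * (g⁻¹ * D.z * g) = g⁻¹ * (D.z * D.z) * g by group, D.z_sq]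
    group
  obtain ⟨a, ha, k, hk, rfl⟩ := D.dec x hx
  have hak : Commute a k := D.K_comm ha hk
  have h4 : a * a * (k * k) = 1 := by rw [← hak.symm.mul_mul_mul_comm]; exact hx2
  rcases D.inter (a * a) (mul_mem ha ha)
      (by rw [eq_inv_of_mul_eq_one_left h4]; exact inv_mem (mul_mem hk hk)) with e | e
  · rw [e, one_mul] at h4
    rcases D.inv_K k hk h4 with rfl | rfl
    · exact absurd (by rwa [mul_one]) hxA
    · exact absurd (mul_mem ha D.zA) hxA
  have hkk : k * k = D.z := by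
    rw [e] at h4
    rw [← inv_eq_of_mul_eq_one_right h4, inv_eq_of_mul_eq_one_right D.z_sq]
  let k' : ↥K := ⟨k, hk⟩
  have hk4 : k' ^ 2 ^ 2 = 1 := Subtype.ext (by
    simp only [SubmonoidClass.coe_pow, OneMemClass.coe_one, k']
    rw [show (2 : ℕ) ^ 2 = 2 + 2 from rfl, pow_add, pow_two, hkk, D.z_sq])
  obtain ⟨R, hR⟩ : ∃ R : Sylow 2 ↥K, zpowers k' ≤ R := by
    refine IsPGroup.exists_le_sylow fun y => ⟨2, ?_⟩
    obtain ⟨i, hi⟩ := mem_zpowers_iff.mp y.2
    refine Subtype.ext ?_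
    rw [SubmonoidClass.coe_pow, ← hi, OneMemClass.coe_one, ← zpow_natCast, ← zpow_mul, mul_comm, zpow_mul,
      zpow_natCast, hk4, one_zpow]
  haveI := D.cyc R
  obtain ⟨r, hr⟩ := IsCyclic.exists_generator (α := ↥(R : Subgroup ↥K))
  obtain ⟨m, hm⟩ := IsPGroup.iff_card.mp R.2
  have hord : orderOf ((r : ↥K) : G) = 2 ^ m := by
    rw [Subgroup.orderOf_coe, Subgroup.orderOf_coe, orderOf_eq_card_of_forall_mem_zpowers hr, hm]
  obtain ⟨i, hi⟩ := mem_zpowers_iff.mp (hr ⟨k', hR (mem_zpowers _)⟩)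
  have hik : ((r : ↥K) : G) ^ i = k := by
    have := congrArg (fun y : ↥(R : Subgroup ↥K) => ((y : ↥K) : G)) hi
    simpa [k'] using this
  have hm0 : m ≠ 0 := fun h0 => by
    rw [h0, pow_zero, orderOf_eq_one_iff] at hord
    rw [hord, one_zpow] at hik
    rw [← hik, one_mul] at hkk
    exact D.z_ne hkk.symm
  obtain ⟨n, rfl⟩ := Nat.exists_eq_succ_of_ne_zero hm0
  set r0 : G := ((r : ↥K) : G)
  have hr0 : r0 ∈ K := (r : ↥K).2
  have hz : r0 ^ 2 ^ n = D.z := by
    rcases D.inv_K _ (pow_mem hr0 _) (by rw [← pow_add, ← two_mul, ← pow_succ', ← hord, pow_orderOf_eq_one]) with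
      e | e
    · exfalso
      have := orderOf_dvd_of_pow_eq_one e
      rw [hord] at this
      have := Nat.le_of_dvd (Nat.two_pow_pos n) this
      rw [pow_succ] at this
      have := Nat.two_pow_pos n
      omega
    · exact e
  have hrk : Commute r0 k := hik ▸ (Commute.refl r0).zpow_right i
  have hrx : Commute r0 (a * k) := Commute.mul_right (D.K_comm ha hr0).symm hrk
  have hrz : g * r0 * g⁻¹ * D.z = D.z * (g * r0 * g⁻¹) := by
    rw [← hg]
    rw [show g * r0 * g⁻¹ * (g * (a * k) * g⁻¹) = g * (r0 * (a * k)) * g⁻¹ by group, hrx.eq]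
    group
  obtain ⟨b, hb, l, hl, e'⟩ := D.dec _ hrz
  have hx' : g * D.z * g⁻¹ = b ^ 2 ^ n * l ^ 2 ^ n := by
    rw [← (D.K_comm hb hl).mul_pow, ← e', conj_pow, hz]
  have h2 : (b ^ 2 ^ n * b ^ 2 ^ n) * (l ^ 2 ^ n * l ^ 2 ^ n) = 1 := by
    rw [← ((D.K_comm hb hl).pow_pow _ _).symm.mul_mul_mul_comm, ← hx',
      show g * D.z * g⁻¹ * (g * D.z * g⁻¹) = g * (D.z * D.z) * g⁻¹ by group, D.z_sq, mul_one, mul_inv_cancel]
  rw [← pow_add, ← two_mul, ← pow_succ'] at h2
  have hl1 : l ^ 2 ^ (n + 1) = 1 := by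
    rw [← pow_add, ← two_mul, ← pow_succ'] at h2
    have hmem : l ^ 2 ^ (n + 1) ∈ D.A := by
      rw [eq_inv_of_mul_eq_one_right h2]; exact inv_mem (pow_mem hb _)
    refine (D.inter _ hmem (pow_mem hl _)).resolve_right fun e => ?_
    obtain ⟨q, hq, hcard⟩ : ∃ q, Odd q ∧ Nat.card ↥K = 2 ^ (n + 1) * q := by
      refine ⟨(R : Subgroup ↥K).index, Nat.odd_iff.mpr (Nat.two_dvd_ne_zero.mp R.not_dvd_index), ?_⟩
      rw [← hm, Subgroup.card_mul_index]
    have h1 : (l ^ 2 ^ (n + 1)) ^ q = 1 := by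
      rw [← pow_mul, ← hcard]
      exact congrArg Subtype.val (pow_card_eq_one' (G := ↥K) (x := ⟨l, hl⟩))
    obtain ⟨j, rfl⟩ := hq
    rw [e, pow_succ, pow_mul, pow_two, D.z_sq, one_pow, one_mul] at h1
    exact D.z_ne h1
  rcases D.inv_K _ (pow_mem hl (2 ^ n)) (by rw [← pow_add, ← two_mul, ← pow_succ', hl1]) with e | e <;>
    rw [hx', e]
  · exact mul_mem (pow_mem hb _) (one_mem _)
  · exact mul_mem (pow_mem hb _) D.zA

/-- The centre of the component is isolated. -/
theorem isolated : Cfsg.IsIsolated D.z := by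
  classical
  haveI : Fact (Nat.Prime 2) := ⟨Nat.prime_two⟩
  set K := centralizer (D.A : Set G) with hK
  set S := (D.Q : Subgroup ↥D.A).map D.A.subtype with hS
  have hSA : S ≤ D.A := map_subtype_le _
  obtain ⟨R⟩ : Nonempty (Sylow 2 ↥K) := inferInstance
  let f : ↥D.A × ↥K →* G := MonoidHom.noncommCoprod D.A.subtype K.subtype fun a k => D.K_comm a.2 k.2
  have hfv : ∀ a k, f (a, k) = (a : G) * k := fun _ _ => rfl
  set T := ((D.Q : Subgroup ↥D.A).prod (R : Subgroup ↥K)).map f with hTdef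
  have hT : ∀ t, t ∈ T ↔ ∃ s ∈ S, ∃ r ∈ (R : Subgroup ↥K), t = s * r := by
    intro t
    constructor
    · rintro ⟨⟨a, k⟩, ⟨ha, hk⟩, rfl⟩
      exact ⟨a, ⟨a, ha, rfl⟩, k, hk, hfv a k⟩
    · rintro ⟨_, ⟨a, ha, rfl⟩, r, hr, rfl⟩
      exact ⟨(a, r), ⟨ha, hr⟩, hfv a r⟩
  have hrange : ∀ n, n * D.z = D.z * n ↔ n ∈ f.range := fun n => by
    constructor
    · intro hn
      obtain ⟨a, ha, k, hk, rfl⟩ := D.dec n hn
      exact ⟨(⟨a, ha⟩, ⟨k, hk⟩), rfl⟩
    · rintro ⟨⟨a, k⟩, rfl⟩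
      rw [hfv]
      exact ((show Commute (a : G) D.z from D.z_cent a a.2).mul_left (D.K_z k.2)).eq
  have hTpg : IsPGroup 2 T := by
    refine IsPGroup.map (fun y => ?_) f
    obtain ⟨i, hi⟩ := D.Q.2 ⟨y.1.1, y.2.1⟩
    obtain ⟨j, hj⟩ := R.2 ⟨y.1.2, y.2.2⟩
    refine ⟨i + j, Subtype.ext (Prod.ext ?_ ?_)⟩
    · have := congrArg Subtype.val hi
      simp only [SubmonoidClass.coe_pow, OneMemClass.coe_one] at this
      simp [pow_add, pow_mul, this]
    · have := congrArg Subtype.val hj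
      simp only [SubmonoidClass.coe_pow, OneMemClass.coe_one] at this
      simp [pow_add, mul_comm (2 ^ i), pow_mul, this]
  have hTle : T ≤ f.range := map_le_range _ _
  have hodd : ¬ 2 ∣ T.relIndex f.range := by
    intro h2
    have hd : T.relIndex f.range ∣ ((D.Q : Subgroup ↥D.A).prod (R : Subgroup ↥K)).index := by
      have e : T.subgroupOf f.range = ((D.Q : Subgroup ↥D.A).prod (R : Subgroup ↥K)).map f.rangeRestrict := by
        ext ⟨y, hy⟩
        simp only [mem_subgroupOf, hTdef, mem_map, Subtype.ext_iff, MonoidHom.coe_rangeRestrict]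
      rw [relIndex, e]
      exact index_map_dvd _ f.rangeRestrict_surjective
    rw [index_prod] at hd
    rcases (Nat.prime_two.dvd_mul).mp (h2.trans hd) with h | h
    exacts [D.Q.not_dvd_index h, R.not_dvd_index h]
  have hmax : ∀ P : Subgroup G, IsPGroup 2 P → T ≤ P → P ≤ f.range → P ≤ T := by
    intro P hP hTP hPN
    have h1 : T.relIndex P ∣ T.relIndex f.range := Dvd.intro _ (relIndex_mul_relIndex T P f.range hTP hPN)
    obtain ⟨i, hi⟩ := IsPGroup.iff_card.mp hP
    obtain ⟨j, -, hj⟩ := (Nat.dvd_prime_pow Nat.prime_two).mp (hi ▸ relIndex_dvd_card T P)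
    have hj0 : j = 0 := by
      by_contra h0
      exact hodd ((dvd_pow_self 2 h0).trans (hj ▸ h1))
    rw [hj0, pow_zero, relIndex_eq_one] at hj
    exact hj
  have hd : D.d ∈ S ∧ D.d * D.d = 1 ∧ ∀ u ∈ S, D.d * u = u * D.d := by
    have hcA : D.c ∈ D.A := hSA D.c_mem
    have hzQ : D.z ∈ S := by
      have hzc : (⟨D.z, D.zA⟩ : ↥D.A) ∈ Subgroup.center ↥D.A :=
        mem_center_iff.mpr fun a => Subtype.ext (D.z_cent a a.2)
      have hpg : IsPGroup 2 ↥(zpowers (⟨D.z, D.zA⟩ : ↥D.A)) := fun y => ⟨1, by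
        obtain ⟨i, hi⟩ := mem_zpowers_iff.mp y.2
        refine Subtype.ext ?_
        rw [SubmonoidClass.coe_pow, ← hi, OneMemClass.coe_one, pow_one, ← zpow_natCast, ← zpow_mul, mul_comm,
          zpow_mul, zpow_natCast, show (⟨D.z, D.zA⟩ : ↥D.A) ^ 2 = 1 from Subtype.ext (by
            rw [SubmonoidClass.coe_pow, pow_two, D.z_sq]; rfl), one_zpow]⟩
      obtain ⟨Q', hQ'⟩ := hpg.exists_le_sylow
      obtain ⟨a, ha⟩ := MulAction.exists_smul_eq ↥D.A Q' D.Q
      refine ⟨⟨D.z, D.zA⟩, ?_, rfl⟩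
      have : (⟨D.z, D.zA⟩ : ↥D.A) ∈ (a • Q' : Sylow 2 ↥D.A) := by
        show _ ∈ MulAut.conj a • ((Q' : Subgroup ↥D.A) : Set ↥D.A)
        refine Set.mem_smul_set.mpr ⟨_, hQ' (mem_zpowers _), ?_⟩
        simp only [MulAut.smul_def, MulAut.conj_apply]
        rw [mem_center_iff.mp hzc a, mul_inv_cancel_right]
      rwa [ha] at this
    refine ⟨D.zc ▸ mul_mem hzQ D.c_mem, ?_, fun u hu => ?_⟩
    · rw [← D.zc, show D.z * D.c * (D.z * D.c) = D.z * (D.c * D.z) * D.c by group, D.z_cent _ hcA,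
        show D.z * (D.z * D.c) * D.c = D.z * D.z * (D.c * D.c) by group, D.z_sq, D.c_sq, one_mul]
    · rw [← D.zc, mul_assoc, D.c_cen u hu, ← mul_assoc, ← D.z_cent u (hSA hu), mul_assoc]
  have hcT : ∀ s ∈ S, (∀ u ∈ S, s * u = u * s) → s ∈ centralizer (T : Set G) := fun s hs hc =>
    mem_centralizer_iff.mpr fun t ht => by
      obtain ⟨u, hu, r, -, rfl⟩ := (hT t).mp ht
      rw [mul_assoc, ← (D.K_comm (hSA hs) r.2).eq, ← mul_assoc, ← hc u hu, mul_assoc]
  have hzT : D.z ∈ centralizer (T : Set G) := mem_centralizer_iff.mpr fun t ht => (hrange t).mpr (hTle ht)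
  -- the normaliser of the Sylow 2-subgroup fixes the centre
  have hNT : ∀ g ∈ normalizer (T : Set G), g * D.z = D.z * g := by
    intro g hg
    suffices g * D.z * g⁻¹ = D.z from mul_inv_eq_iff_eq_mul.mp this
    have hgT : ∀ t ∈ T, g * t * g⁻¹ ∈ T := fun t ht => (mem_normalizer_iff.mp hg t).mp ht
    obtain ⟨m, hm⟩ := IsPGroup.iff_card.mp R.2
    haveI := D.cyc R
    obtain ⟨r, hr⟩ := IsCyclic.exists_generator (α := ↥(R : Subgroup ↥K))
    have hord : orderOf ((r : ↥K) : G) = 2 ^ m := by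
      rw [Subgroup.orderOf_coe, Subgroup.orderOf_coe, orderOf_eq_card_of_forall_mem_zpowers hr, hm]
    -- images of central elements of `T`
    have himg : ∀ y ∈ T, y ∈ centralizer (T : Set G) → ∃ s ∈ S, ∃ q ∈ (R : Subgroup ↥K), g * y * g⁻¹ = s * q ∧
        (s = 1 ∨ s = D.z ∨ s = D.c ∨ s = D.d) := by
      intro y hy hc
      obtain ⟨s, hs, q, hq, e⟩ := (hT _).mp (hgT y hy)
      refine ⟨s, hs, q, hq, e, D.centre s hs fun u hu => ?_⟩
      have huT : g⁻¹ * u * g ∈ T :=
        (mem_normalizer_iff''.mp hg u).mp ((hT u).mpr ⟨u, hu, 1, one_mem _, (mul_one u).symm⟩)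
      have h1 : g * y * g⁻¹ * u = u * (g * y * g⁻¹) := by
        have := mem_centralizer_iff.mp hc _ huT
        calc g * y * g⁻¹ * u = g * (y * (g⁻¹ * u * g)) * g⁻¹ := by group
          _ = g * ((g⁻¹ * u * g) * y) * g⁻¹ := by rw [this]
          _ = _ := by group
      rw [e, mul_assoc, ← (D.K_comm (hSA hu) q.2).eq, ← mul_assoc, ← mul_assoc] at h1
      exact mul_right_cancel h1
    have hzS : ∀ {s : G}, (s = 1 ∨ s = D.z ∨ s = D.c ∨ s = D.d) → s * s = 1 := by
      rintro s (rfl | rfl | rfl | rfl)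
      exacts [one_mul 1, D.z_sq, D.c_sq, hd.2.1]
    have hne : g * D.z * g⁻¹ ≠ 1 := fun e => D.z_ne (conj_eq_one_iff.mp e)
    have hsq1 : g * D.z * g⁻¹ * (g * D.z * g⁻¹) = 1 := by
      rw [show g * D.z * g⁻¹ * (g * D.z * g⁻¹) = g * (D.z * D.z) * g⁻¹ by group, D.z_sq, mul_one, mul_inv_cancel]
    have hm0 : m ≠ 0 := fun h0 => by
      have hRb : ∀ q ∈ (R : Subgroup ↥K), q = 1 := fun q hq => by
        have h1 := (R : Subgroup ↥K).eq_bot_of_card_eq (by rw [hm, h0, pow_zero])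
        rwa [h1, mem_bot] at hq
      have hpg : IsPGroup 2 ↥(zpowers (⟨D.z, D.z_mem_K⟩ : ↥K)) := fun y => ⟨1, by
        obtain ⟨i, hi⟩ := mem_zpowers_iff.mp y.2
        refine Subtype.ext ?_
        rw [SubmonoidClass.coe_pow, ← hi, OneMemClass.coe_one, pow_one, ← zpow_natCast, ← zpow_mul, mul_comm,
          zpow_mul, zpow_natCast, show (⟨D.z, D.z_mem_K⟩ : ↥K) ^ 2 = 1 from Subtype.ext (by
            rw [SubmonoidClass.coe_pow, pow_two, D.z_sq]; rfl), one_zpow]⟩
      obtain ⟨R', hR'⟩ := hpg.exists_le_sylow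
      have h1 : Nat.card ↥(R' : Subgroup ↥K) = 1 := by
        rw [← pow_zero 2, ← h0, ← hm]; exact Nat.card_congr (R'.equiv R).toEquiv
      have := hR' (mem_zpowers _)
      rw [Subgroup.eq_bot_of_card_eq _ h1, mem_bot] at this
      exact D.z_ne (congrArg Subtype.val this)
    obtain ⟨n, rfl⟩ := Nat.exists_eq_succ_of_ne_zero hm0
    have hz : ((r : ↥K) : G) ^ 2 ^ n = D.z := by
      rcases D.inv_K _ (pow_mem (r : ↥K).2 _)
          (by rw [← pow_add, ← two_mul, ← pow_succ', ← hord, pow_orderOf_eq_one]) with e | e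
      · exfalso
        have h1 := Nat.le_of_dvd (Nat.two_pow_pos n) (hord ▸ orderOf_dvd_of_pow_eq_one e)
        rw [pow_succ] at h1
        have := Nat.two_pow_pos n
        omega
      · exact e
    have hzR : (⟨D.z, D.z_mem_K⟩ : ↥K) ∈ (R : Subgroup ↥K) := by
      rw [show (⟨D.z, D.z_mem_K⟩ : ↥K) = (r : ↥K) ^ 2 ^ n from Subtype.ext (by rw [SubmonoidClass.coe_pow, hz])]
      exact pow_mem r.2 _
    by_cases hn : n = 0
    · subst hn
      have hR2 : ∀ q ∈ (R : Subgroup ↥K), (q : G) = 1 ∨ (q : G) = D.z := fun q hq => by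
        refine D.inv_K q q.2 ?_
        have := pow_card_eq_one' (G := ↥(R : Subgroup ↥K)) (x := ⟨q, hq⟩)
        rw [hm, pow_one, pow_two] at this
        exact congrArg (fun y : ↥(R : Subgroup ↥K) => ((y : ↥K) : G)) this
      have hTS : T = S := by
        ext t
        refine ⟨fun ht => ?_, fun ht => (hT t).mpr ⟨t, ht, 1, one_mem _, (mul_one t).symm⟩⟩
        obtain ⟨s, hs, q, hq, rfl⟩ := (hT t).mp ht
        rcases hR2 q hq with e | e <;> rw [e]
        · rwa [mul_one]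
        · refine mul_mem hs ?_
          rw [show D.z = D.d * D.c by rw [← D.zc, mul_assoc, D.c_sq, mul_one]]
          exact mul_mem hd.1 D.c_mem
      obtain ⟨s, hs, q, hq, e, hs'⟩ := himg D.z ((hT _).mpr ⟨1, one_mem _, _, hzR, (one_mul _).symm⟩) hzT
      have hcases : g * D.z * g⁻¹ = 1 ∨ g * D.z * g⁻¹ = D.z ∨ g * D.z * g⁻¹ = D.c ∨ g * D.z * g⁻¹ = D.d := by
        have hzd : D.z * D.d = D.c := by rw [← D.zc, ← mul_assoc, D.z_sq, one_mul]
        rcases hR2 q hq with e' | e' <;> rw [e, e'] <;> rcases hs' with rfl | rfl | rfl | rfl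
        · simp
        · simp
        · simp
        · simp
        · simp
        · simp [D.z_sq]
        · rw [D.z_cent _ (hSA D.c_mem), D.zc]; simp
        · rw [D.z_cent _ (hSA hd.1), hzd]; simp
      have hS' : (⁅⁅S, S⁆, S⁆).map (MulAut.conj g⁻¹).toMonoidHom ≤ ⁅⁅S, S⁆, S⁆ := by
        have h1 : S.map (MulAut.conj g⁻¹).toMonoidHom ≤ S := by
          rintro _ ⟨y, hy, rfl⟩
          simp only [MulEquiv.coe_toMonoidHom, MulAut.conj_apply, inv_inv]
          rw [← hTS] at hy ⊢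
          exact (mem_normalizer_iff''.mp hg y).mp hy
        rw [map_commutator, map_commutator]
        exact commutator_mono (commutator_mono h1 h1) h1
      rcases hcases with e1 | e1 | e1 | e1
      · exact absurd e1 hne
      · exact e1
      · obtain ⟨y, hy, e2⟩ := D.c_root
        refine absurd ?_ (D.z_no_root _ (hS' ⟨y, hy, rfl⟩))
        simp only [MulEquiv.coe_toMonoidHom, MulAut.conj_apply, inv_inv]
        rw [show g⁻¹ * y * g * (g⁻¹ * y * g) = g⁻¹ * (y * y) * g by group, e2, ← e1]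
        group
      · obtain ⟨y, hy, e2⟩ := D.d_root
        refine absurd ?_ (D.z_no_root _ (hS' ⟨y, hy, rfl⟩))
        simp only [MulEquiv.coe_toMonoidHom, MulAut.conj_apply, inv_inv]
        rw [show g⁻¹ * y * g * (g⁻¹ * y * g) = g⁻¹ * (y * y) * g by group, e2, ← e1]
        group
    · have hrc : ((r : ↥K) : G) ∈ centralizer (T : Set G) := mem_centralizer_iff.mpr fun t ht => by
        obtain ⟨u, hu, q, hq, rfl⟩ := (hT t).mp ht
        have hrq : Commute (q : G) ((r : ↥K) : G) := by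
          obtain ⟨i, hi⟩ := mem_zpowers_iff.mp (hr ⟨q, hq⟩)
          have := congrArg (fun y : ↥(R : Subgroup ↥K) => ((y : ↥K) : G)) hi
          simp only [SubgroupClass.coe_zpow] at this
          exact this ▸ ((Commute.refl ((r : ↥K) : G)).zpow_left i)
        exact ((D.K_comm (hSA hu) (r : ↥K).2).mul_left hrq).eq
      obtain ⟨s, hs, q, hq, e, hs'⟩ := himg _ ((hT _).mpr ⟨1, one_mem _, _, r.2, (one_mul _).symm⟩) hrc
      obtain ⟨n', rfl⟩ := Nat.exists_eq_succ_of_ne_zero hn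
      have hc : g * D.z * g⁻¹ = (q : G) ^ 2 ^ (n' + 1) := by
        rw [← hz, ← conj_pow, e, (D.K_comm (hSA hs) q.2).mul_pow, pow_succ' 2 n', pow_mul s, pow_two, hzS hs',
          one_pow, one_mul]
      rcases D.inv_K _ (pow_mem q.2 _) (hc ▸ hsq1) with e' | e'
      · exact absurd (hc.trans e') hne
      · exact hc.trans e'
  -- so it is a Sylow 2-subgroup of the group
  obtain ⟨P, hTP⟩ := hTpg.exists_le_sylow
  have hPT : (P : Subgroup G) = T := by
    refine le_antisymm ?_ hTP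
    by_contra hne
    haveI : Group.IsNilpotent ↥(P : Subgroup G) := P.2.isNilpotent
    have hlt : T.subgroupOf P < ⊤ := lt_top_iff_ne_top.mpr fun h => hne (subgroupOf_eq_top.mp h)
    obtain ⟨y, hy, hyT⟩ := SetLike.exists_of_lt (normalizerCondition_of_isNilpotent _ hlt)
    rw [mem_subgroupOf] at hyT
    have hyN : (y : G) ∈ normalizer (T : Set G) := mem_normalizer_iff.mpr fun h => by
      constructor
      · intro hh
        exact (mem_normalizer_iff.mp hy ⟨h, hTP hh⟩).mp (by simpa [mem_subgroupOf] using hh)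
      · intro hh
        have hhP : h ∈ (P : Subgroup G) := by
          have := mul_mem (mul_mem (inv_mem y.2) (hTP hh)) y.2
          simpa [mul_assoc] using this
        simpa [mem_subgroupOf] using (mem_normalizer_iff.mp hy ⟨h, hhP⟩).mpr (by simpa [mem_subgroupOf] using hh)
    have hle := hmax ((P : Subgroup G) ⊓ f.range) (P.2.to_le inf_le_left) (le_inf hTP hTle) inf_le_right
    exact hyT (hle (mem_inf.mpr ⟨y.2, (hrange _).mp (hNT _ hyN)⟩))
  -- conjugates inside the component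
  have hin : ∀ y ∈ D.A, ∀ g : G, g * y * g⁻¹ = D.z → y = D.z := by
    intro y hy g hg
    by_contra hne
    have hy2 : y * y = 1 := by
      rw [show y = g⁻¹ * D.z * g by rw [← hg]; group,
        show g⁻¹ * D.z * g * (g⁻¹ * D.z * g) = g⁻¹ * (D.z * D.z) * g by group, D.z_sq]
      group
    have hy1 : y ≠ 1 := fun e => D.z_ne (by rw [← hg, e]; group)
    obtain ⟨a, ha, hcd⟩ := D.classes y hy hy2 hy1 hne
    have key : ∀ w, a * y * a⁻¹ = w → w ∈ S → (∀ u ∈ S, w * u = u * w) → w ≠ D.z → False := by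
      intro w hw hwS hwc hwne
      have hg' : (g * a⁻¹) * w * (g * a⁻¹)⁻¹ = D.z := by rw [← hw, ← hg]; group
      obtain ⟨n, hn, e⟩ := Sylow.conj_eq_normalizer_conj_of_mem_centralizer P D.z (g * a⁻¹)
        (by rw [← Sylow.coe_coe, hPT]; exact hzT)
        (by rw [← Sylow.coe_coe, hPT]
            rw [show (g * a⁻¹)⁻¹ * D.z * (g * a⁻¹) = w by rw [← hg']; group]
            exact hcT w hwS hwc)
      have hnz : n * D.z = D.z * n := hNT n (by rw [← hPT]; exact hn)
      apply hwne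
      calc w = (g * a⁻¹)⁻¹ * D.z * (g * a⁻¹) := by rw [← hg']; group
        _ = n⁻¹ * D.z * n := e
        _ = D.z := by rw [mul_assoc, ← hnz, inv_mul_cancel_left]
    rcases hcd with e | e
    · exact key _ e D.c_mem D.c_cen D.c_ne
    · exact key _ e hd.1 hd.2.2 D.d_ne
  intro g hc
  by_contra hne
  by_cases hA : g * D.z * g⁻¹ ∈ D.A
  · exact hne (hin _ hA g⁻¹ (by group))
  · obtain ⟨h1, h2⟩ := D.outside (x := g * D.z * g⁻¹) (g := g⁻¹) (by group) hc.symm.eq hA
    exact h2 (hin _ h1 g (by group))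

end Cfg

end CfsgLib.StdRu
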