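/-
A Sylow 2-subgroup of the double cover of the Rudvalis group: its centre, the squares in its second commutator
term, and the fusion of its involutions.
-/
import Cfsg.Agent.Lib.StdRu.Checks
import Cfsg.Agent.Lib.RuMult.Main

set_option autoImplicit false
set_option linter.unusedSectionVars false
set_option maxRecDepth 100000

namespace CfsgLib.StdRu

open Subgroup Cfsg.Spor CfsgLib.RuMult CfsgLib.StemSylow.Collect
open scoped commutatorElement

theorem code_dvd {P : Pres} : ∀ {k : ℕ} {l : List ℕ}, P.normalFrom k l = true → 2 ^ k ∣ code l := by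
  intro k l
  induction l generalizing k with
  | nil => intro _; exact dvd_zero _
  | cons a l ih =>
    intro hl
    simp only [Pres.normalFrom, Bool.and_eq_true, Nat.ble_eq, Nat.blt_eq] at hl
    exact Nat.dvd_add (pow_dvd_pow 2 hl.1.1) ((pow_dvd_pow 2 (by omega)).trans (ih hl.2))

theorem code_inj {P : Pres} : ∀ {j k : ℕ} {l m : List ℕ}, P.normalFrom j l = true → P.normalFrom k m = true →
    code l = code m → l = m := by
  intro j k l
  induction l generalizing j k with
  | nil =>
    intro m _ hm e
    cases m with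
    | nil => rfl
    | cons b m =>
      have := Nat.two_pow_pos b
      simp only [code, List.foldr_nil, List.foldr_cons] at e
      omega
  | cons a l ih =>
    intro m hl hm e
    cases m with
    | nil =>
      have := Nat.two_pow_pos a
      simp only [code, List.foldr_nil, List.foldr_cons] at e
      omega
    | cons b m =>
      simp only [Pres.normalFrom, Bool.and_eq_true, Nat.ble_eq, Nat.blt_eq] at hl hm
      have e' : 2 ^ a + code l = 2 ^ b + code m := e
      have hne : ∀ (x y : ℕ), x < y → ∀ u v : ℕ, 2 ^ (x + 1) ∣ u → 2 ^ y ∣ v → 2 ^ x + u ≠ v := by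
        intro x y hxy u v hu hv huv
        have h1 : 2 ^ (x + 1) ∣ v := (pow_dvd_pow 2 hxy).trans hv
        rw [← huv, Nat.dvd_add_left hu, Nat.pow_dvd_pow_iff_le_right (by norm_num)] at h1
        omega
      rcases Nat.lt_trichotomy a b with h | rfl | h
      · exact absurd e' (hne a b h _ _ (code_dvd hl.2)
          (Nat.dvd_add dvd_rfl ((pow_dvd_pow 2 (by omega)).trans (code_dvd hm.2))))
      · rw [ih hl.2 hm.2 (by omega)]
      · exact absurd e'.symm (hne b a h _ _ (code_dvd hm.2)
          (Nat.dvd_add dvd_rfl ((pow_dvd_pow 2 (by omega)).trans (code_dvd hl.2))))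

theorem old_sound {G : Type*} [Group G] {C : Cert} {g t : ℕ → G} (ht : t 0 = 1)
    (hf : ∀ m < C.facts.length, t (C.facts.getD m (0, [], [])).1 * ev g (C.facts.getD m (0, [], [])).2.1 *
      (t (C.facts.getD m (0, [], [])).1)⁻¹ = ev g (C.facts.getD m (0, [], [])).2.2) :
    (∀ v w, oldSame C v w = true → ev g v = ev g w) ∧
      ∀ i l, C.sameT i l = true → t i * ev g (C.qcat l) * (t i)⁻¹ = ev g (C.pcat l) := by
  have hc : ∀ (_ : ℕ) (x : G), Commute ((fun _ => 1) (0 : ℕ) : G) x := fun _ x => Commute.one_left x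
  have hat : ∀ m, FactAt C g t (E := fun _ => (1 : G)) m := fun m => by
    show _ = _ * (1 : G)
    rw [mul_one]
    by_cases hm : m < C.facts.length
    · exact hf m hm
    · rw [show C.fact m = (0, [], []) from List.getD_eq_default _ _ (not_lt.mp hm)]
      simp [ev_nil, ht]
  have hone : ∀ f : ℕ, zz (fun _ => (1 : G)) C.facts.length f = 1 := by
    intro f
    induction C.facts.length with
    | zero => rfl
    | succ k ih => simp [zz, ih]
  refine ⟨fun v w e => ?_, fun i l e => ?_⟩
  · rw [oldSame] at e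
    split at e
    · rename_i a _ b _ ha hb
      have h1 := collect_sound C (E := fun _ => (1 : G)) (fun _ _ => Commute.one_left _) (fun _ => one_mul _) ht hat
        C.fuel [] v a _ ha
      have h2 := collect_sound C (E := fun _ => (1 : G)) (fun _ _ => Commute.one_left _) (fun _ => one_mul _) ht hat
        C.fuel [] w b _ hb
      rw [hone, mul_one, List.reverse_nil, List.nil_append] at h1 h2
      rw [h1, h2, of_decide_eq_true e]
    · simp at e
  · have := conj_sound C (E := fun _ => (1 : G)) (fun _ _ => Commute.one_left _) (fun _ => one_mul _) ht hat i l e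
    rwa [hone, mul_one] at this

variable (H : RuMult.Facts)

/-- The collected generators. -/
noncomputable def gD (k : ℕ) : DRu := toD (gI' tabs giTwo k)

/-- The fusing elements. -/
noncomputable def tD (k : ℕ) : DRu := toD (tI tabs tiTwo k)

/-- The Sylow 2-subgroup. -/
def QD : Subgroup DRu := closure (gD '' {k | k < 15})

include H

theorem facts_D : tD 0 = 1 ∧ ∀ m < certTwo.facts.length, tD (certTwo.facts.getD m (0, [], [])).1 *
    ev gD (certTwo.facts.getD m (0, [], [])).2.1 * (tD (certTwo.facts.getD m (0, [], [])).1)⁻¹ =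
      ev gD (certTwo.facts.getD m (0, [], [])).2.2 := by
  obtain ⟨hg, ht', -⟩ := cover H
  exact facts_in_cover H factsTwo_ok hg ht' ranges_ok.1

theorem card_QD : Nat.card ↥QD = 2 ^ 15 := by
  haveI := finite_fourRu H
  obtain ⟨hg, -⟩ := cover H
  obtain ⟨ht, hf⟩ := facts_D H
  obtain ⟨hn, hlen⟩ := certTwo_n
  refine le_antisymm ?_ ?_
  · have := upper_two certTwo certTwo_ok gD tD ht hf
    rwa [hn] at this
  · have := card_ge_cover H (n := certTwo.n) (by rw [hn, hlen]) hg (ch := chainTwo) (gens_ok.1 ▸ chainTwo_ok.1)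
    rw [chainTwo_ok.2, hn] at this
    exact this

/-- The central involution. -/
theorem gD_fourteen : (gD 14 : ↥fourRu) = iU * iU := by
  obtain ⟨hg, -⟩ := cover H
  obtain ⟨-, hlen⟩ := certTwo_n
  show ((toD (gI' tabs giTwo 14) : DRu) : ↥fourRu) = iU * iU
  rw [coe_toD (gI'_mem H hg (by rw [hlen]; norm_num))]
  have e := wd_eq_of_sameW tabs_ok central_tab
  simpa [wd, ev_cons, ev_nil, iU_tab, gI'] using e

omit H in
theorem wd_new {k : ℕ} (hk : k < 15) : ∀ x ∈ Data.newW.getD k [], x < 15 := by
  have h := List.all_eq_true.mp gens_ok'.1 k (List.mem_range.mpr hk)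
  simp only [Bool.and_eq_true, List.all_eq_true, Nat.blt_eq] at h
  exact h.1.1.1.1.2

omit H in
/-- The adapted basis. -/
noncomputable def hQ (k : ℕ) : ↥QD :=
  if hk : k < 15 then ⟨ev gD (Data.newW.getD k []), list_prod_mem fun y hy => by
    obtain ⟨x, hx, rfl⟩ := List.mem_map.mp hy
    exact subset_closure ⟨x, wd_new hk x hx, rfl⟩⟩
  else 1

omit H in
theorem coe_ev_hQ : ∀ {l : List ℕ}, (∀ x ∈ l, x < 15) → ((ev hQ l : ↥QD) : DRu) = ev gD (flatW l) := by
  intro l
  induction l with
  | nil => intro _; rfl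
  | cons a l ih =>
    intro hl
    rw [ev_cons, Subgroup.coe_mul, ih fun x hx => hl x (List.mem_cons_of_mem _ hx), hQ,
      dif_pos (hl a (List.mem_cons_self ..)),
      show flatW (a :: l) = Data.newW.getD a [] ++ flatW l from List.flatMap_cons .., ev_append]

theorem full : ruP.Full hQ := by
  obtain ⟨ht, hf⟩ := facts_D H
  obtain ⟨hsame, -⟩ := old_sound ht hf
  have hgen := fun k (hk : k < 15) => List.all_eq_true.mp gens_ok'.1 k (List.mem_range.mpr hk)
  simp only [Bool.and_eq_true, List.all_eq_true, Nat.blt_eq] at hgen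
  refine ⟨shape_ok, fun i j hij hj => ?_, ?_, (card_QD H).ge⟩
  · have hj' : j < 15 := hj
    have e := List.all_eq_true.mp (List.all_eq_true.mp rels_ok i (List.mem_range.mpr (by omega))) j
      (List.mem_range.mpr hj')
    rw [Bool.or_eq_true, Nat.blt_eq] at e
    have e' := hsame _ _ (e.resolve_left (by omega))
    refine Subtype.ext ?_
    rw [← coe_ev_hQ (l := [j, i]) (by simp; omega), ← coe_ev_hQ (l := ruP.rhs i j) ?_] at e'
    · rw [← e']; simp [ev_cons, ev_nil]
    · have hsh := List.all_eq_true.mp (List.all_eq_true.mp shape_ok i (List.mem_range.mpr (show i < 15 by omega))) j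
        (List.mem_range.mpr hj')
      rw [Bool.or_eq_true, Nat.blt_eq] at hsh
      have hsh' := hsh.resolve_left (by omega)
      intro x hx
      cases hb : Nat.beq j i with
      | true =>
        rw [hb, cond_true, List.all_eq_true] at hsh'
        have := hsh' x hx
        simp only [Bool.and_eq_true, Nat.blt_eq] at this
        exact this.2
      | false =>
        rw [hb, cond_false] at hsh'
        split at hsh'
        · simp at hsh'
        · simp at hsh'
        · rename_i p q l hl
          simp only [Bool.and_eq_true, List.all_eq_true, Nat.blt_eq] at hsh'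
          rw [hl] at hx
          rcases List.mem_cons.mp hx with rfl | hx
          · rw [Nat.eq_of_beq_eq_true hsh'.1.1]; omega
          rcases List.mem_cons.mp hx with rfl | hx
          · rw [Nat.eq_of_beq_eq_true hsh'.1.2]; omega
          · exact (hsh'.2 x hx).2
  · rw [eq_top_iff]
    rintro ⟨y, hy⟩ -
    have : y ∈ (closure (hQ '' {i | i < ruP.n})).map QD.subtype := by
      refine (closure_le _).mpr ?_ hy
      rintro _ ⟨k, hk, rfl⟩
      obtain ⟨⟨⟨⟨⟨⟨hold, hV⟩, -⟩, -⟩, -⟩, -⟩, -⟩ := hgen k hk
      refine ⟨ev hQ (Data.oldV.getD k []), list_prod_mem fun w hw => ?_, ?_⟩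
      · obtain ⟨x, hx, rfl⟩ := List.mem_map.mp hw
        exact subset_closure ⟨x, hV x hx, rfl⟩
      · rw [Subgroup.coe_subtype, coe_ev_hQ hV, ← hsame _ _ hold]
        simp [ev_cons, ev_nil]
    obtain ⟨w, hw, e⟩ := this
    exact (show w = ⟨y, hy⟩ from Subtype.ext e) ▸ hw

theorem finite_D : Finite DRu := haveI := finite_fourRu H; inferInstance

theorem hQ_fourteen : ((hQ 14 : ↥QD) : DRu) = gD 14 := by
  obtain ⟨ht, hf⟩ := facts_D H
  have := (old_sound ht hf).1 _ _ gens_ok'.2
  rw [← coe_ev_hQ (l := [14]) (by simp)] at this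
  simpa [ev_cons, ev_nil] using this

theorem inv_hQ {k : ℕ} (hk : k < 15) : ev hQ (Data.invW.getD k []) = (hQ k)⁻¹ := by
  haveI := finite_D H
  have h := List.all_eq_true.mp gens_ok'.1 k (List.mem_range.mpr hk)
  simp only [Bool.and_eq_true, List.all_eq_true, Nat.blt_eq] at h
  obtain ⟨⟨-, hI⟩, hs⟩ := h
  refine eq_inv_of_mul_eq_one_left ?_
  have := Pres.same_eq (full H) (P := ruP) (v := Data.invW.getD k [] ++ [k]) (w := []) ?_ (by simp) hs
  · simpa [ev_append, ev_cons, ev_nil] using this
  · intro x hx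
    rcases List.mem_append.mp hx with hx | hx
    · exact hI x hx
    · rw [List.mem_singleton.mp hx]; exact hk

theorem mk_cut {k : ℕ} [(ruP.term hQ k).Normal] {l : List ℕ} (hl : ruP.normalFrom 0 l = true) :
    QuotientGroup.mk' (ruP.term hQ k) (ev hQ (Pres.cut k l)) = QuotientGroup.mk' (ruP.term hQ k) (ev hQ l) :=
  QuotientGroup.eq.mpr (Pres.cut_spec (full H) hl).2

/-- The centre of the Sylow 2-subgroup. -/
theorem centre_QD {s : ↥QD} (hs : ∀ u, s * u = u * s) :
    s = 1 ∨ s = hQ 13 ∨ s = hQ 14 ∨ s = hQ 13 * hQ 14 := by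
  haveI := finite_D H
  have F := full H
  obtain ⟨l, hl, rfl⟩ := Pres.exists_nf F s
  have hmem : l ∈ cenTree := by
    refine Pres.mem_tree F hl fun k => List.all_eq_true.mpr fun i hi => ?_
    haveI := Pres.term_normal F k
    have hi' : i < 15 := by simp at hi; omega
    refine Pres.agree_true F ?_ ?_ (QuotientGroup.eq.mp ?_)
    · intro a ha
      rcases List.mem_append.mp ha with ha | ha
      · exact Pres.lt_of_nf F hl a ha
      · rw [List.mem_singleton.mp ha]; exact hi'
    · intro a ha
      rcases List.mem_cons.mp ha with rfl | ha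
      · exact hi'
      · exact Pres.lt_of_nf F hl a ha
    · show QuotientGroup.mk' _ _ = QuotientGroup.mk' _ _
      rw [ev_append, ev_cons, ev_cons, ev_nil, mul_one, map_mul, map_mul, mk_cut H hl, ← map_mul, ← map_mul, hs]
  have h := List.all_eq_true.mp cen_ok.1 l hmem
  simp only [Bool.or_eq_true] at h
  have hi : ∀ m, ruP.normalFrom 0 m = true → Nat.beq (code l) (code m) = true → ev hQ l = ev hQ m :=
    fun m hm e => by rw [code_inj hl hm (Nat.eq_of_beq_eq_true e)]
  rcases h with ((e | e) | e) | e
  · exact Or.inl (by rw [hi [] rfl e, ev_nil])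
  · exact Or.inr (Or.inl (by rw [hi [13] (by decide) e]; simp [ev_cons, ev_nil]))
  · exact Or.inr (Or.inr (Or.inl (by rw [hi [14] (by decide) e]; simp [ev_cons, ev_nil])))
  · exact Or.inr (Or.inr (Or.inr (by rw [hi [13, 14] (by decide) e]; simp [ev_cons, ev_nil])))

theorem central_two : (∀ u, hQ 13 * u = u * hQ 13) ∧ hQ 13 * hQ 13 = 1 := by
  haveI := finite_D H
  have F := full H
  obtain ⟨-, hc, h1, -⟩ := cen_ok
  refine ⟨fun u => ?_, ?_⟩
  · have hi : ∀ i, i < 3 → hQ 13 * hQ i = hQ i * hQ 13 := fun i hi => by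
      have := List.all_eq_true.mp (List.all_eq_true.mp hc 13 (by simp)) i (by simp; omega)
      have := Pres.same_eq F (P := ruP) (v := [13, i]) (w := [i, 13]) (by simp [ruP]; omega) (by simp [ruP]; omega) this
      simpa [ev_cons, ev_nil] using this
    have hu : u ∈ centralizer ({hQ 13} : Set ↥QD) := by
      have : closure (hQ '' {i | i < ruP.n}) ≤ centralizer ({hQ 13} : Set ↥QD) := by
        rw [closure_le]
        rintro _ ⟨k, hk, rfl⟩
        have h := List.all_eq_true.mp gens_ok'.1 k (List.mem_range.mpr hk)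
        simp only [Bool.and_eq_true, List.all_eq_true, Nat.blt_eq] at h
        obtain ⟨⟨⟨⟨-, hs⟩, h3⟩, -⟩, -⟩ := h
        have e := Pres.same_eq F (P := ruP) (v := [k]) (w := Data.threeW.getD k []) (by simpa using hk)
          (fun x hx => (h3 x hx).trans (by decide)) hs
        rw [show hQ k = ev hQ (Data.threeW.getD k []) by rw [← e]; simp [ev_cons, ev_nil]]
        refine list_prod_mem fun w hw => ?_
        obtain ⟨x, hx, rfl⟩ := List.mem_map.mp hw
        exact mem_centralizer_singleton_iff.mpr (hi x (h3 x hx)).symm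
      exact this (F.top ▸ mem_top u)
    exact (mem_centralizer_singleton_iff.mp hu).symm
  · have := Pres.same_eq F (P := ruP) (v := [13, 13]) (w := []) (by simp [ruP]) (by simp) h1
    simpa [ev_cons, ev_nil] using this

/-- A link of the forest joins conjugate elements. -/
theorem edge_conj {e : List ℕ × List ℕ × ℕ × List ℕ} (h : edgeOK certTwo e = true) :
    ruP.normalFrom 0 e.1 = true ∧ ruP.normalFrom 0 e.2.1 = true ∧
      IsConj ((ev hQ e.1 : ↥QD) : DRu) (ev hQ e.2.1 : ↥QD) := by
  haveI := finite_D H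
  have F := full H
  obtain ⟨u, v, i, m⟩ := e
  simp only [edgeOK, Bool.and_eq_true] at h
  obtain ⟨⟨hu, hv⟩, h⟩ := h
  have hu' : ∀ x ∈ u, x < 15 := fun x hx => (Pres.normalFrom_lt hu x hx).2
  have hv' : ∀ x ∈ v, x < 15 := fun x hx => (Pres.normalFrom_lt hv x hx).2
  refine ⟨hu, hv, ?_⟩
  cases m with
  | nil =>
    simp only [Bool.and_eq_true, Nat.blt_eq] at h
    obtain ⟨hi, hs⟩ := h
    have e := Pres.same_eq F (P := ruP) (v := i :: u) (w := v ++ [i])
      (by intro x hx; rcases List.mem_cons.mp hx with rfl | hx; exacts [hi, hu' x hx])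
      (by intro x hx; rcases List.mem_append.mp hx with hx | hx
          exacts [hv' x hx, (List.mem_singleton.mp hx) ▸ hi]) hs
    rw [ev_cons, ev_append, ev_cons, ev_nil, mul_one] at e
    refine isConj_iff.mpr ⟨(hQ i : DRu), mul_inv_eq_iff_eq_mul.mpr ?_⟩
    rw [← Subgroup.coe_mul, ← Subgroup.coe_mul, e]
  | cons a l =>
    simp only [Bool.and_eq_true] at h
    obtain ⟨⟨hT, h1⟩, h2⟩ := h
    obtain ⟨ht, hf⟩ := facts_D H
    obtain ⟨hsame, hconj⟩ := old_sound ht hf
    have e := hconj _ _ hT
    rw [hsame _ _ h1, hsame _ _ h2, ← coe_ev_hQ hu', ← coe_ev_hQ hv'] at e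
    exact isConj_iff.mpr ⟨_, e⟩

/-- The involutions of the Sylow 2-subgroup. -/
theorem invols {x : ↥QD} (hx : x * x = 1) : x = 1 ∨ x = hQ 14 ∨ IsConj (x : DRu) (hQ 13) ∨
    IsConj (x : DRu) ((hQ 13 * hQ 14 : ↥QD) : DRu) := by
  haveI := finite_D H
  have F := full H
  obtain ⟨l, hl, rfl⟩ := Pres.exists_nf F x
  have hmem : l ∈ invStep 14 (invStep 13 (invStep 12 (Pres.tree invTest 12))) := by
    show l ∈ Pres.tree invTest ruP.n
    refine Pres.mem_tree F hl fun k => ?_
    haveI := Pres.term_normal F k
    refine Pres.liesIn_true F (fun a ha => ?_) ?_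
    · rcases List.mem_append.mp ha with ha | ha <;> exact Pres.lt_of_nf F hl a ha
    · rw [← QuotientGroup.eq_one_iff]
      show QuotientGroup.mk' (ruP.term hQ k) _ = 1
      rw [ev_append, map_mul, mk_cut H hl, ← map_mul, hx, map_one]
  rw [eq_of_beq inv_twelve] at hmem
  have hchunk : invLast (Data.invTwelve) = true := by
    have split : ∀ A B, invLast A = true → invLast B = true → invLast (A ++ B) = true := fun A B ha hb => by
      simp only [invLast, invStep, List.flatMap_append, List.all_append, Bool.and_eq_true] at ha hb ⊢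
      exact ⟨ha, hb⟩
    have e : Data.invTwelve = Data.invTwelve.take 108 ++ ((Data.invTwelve.drop 108).take 108 ++
        ((Data.invTwelve.drop 216).take 108 ++ Data.invTwelve.drop 324)) := by
      conv_lhs => rw [← List.take_append_drop 108 Data.invTwelve,
        ← List.take_append_drop 108 (Data.invTwelve.drop 108), List.drop_drop,
        ← List.take_append_drop 108 (Data.invTwelve.drop (108 + 108)), List.drop_drop]
    rw [e]
    exact split _ _ inv_last0 (split _ _ inv_last1 (split _ _ inv_last2 inv_last3))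
  have h := List.all_eq_true.mp hchunk l hmem
  simp only [Bool.or_eq_true] at h
  rcases h with (e | e) | e
  · exact Or.inl (by rw [code_inj hl (m := []) (k := 0) rfl (Nat.eq_of_beq_eq_true e), ev_nil])
  · refine Or.inr (Or.inl ?_)
    rw [code_inj hl (m := [14]) (k := 0) (by decide) (Nat.eq_of_beq_eq_true e)]
    simp [ev_cons, ev_nil]
  · refine Or.inr (Or.inr ?_)
    let Good : ℕ → Prop := fun n => ∀ v, ruP.normalFrom 0 v = true → n.testBit (code v) = true →
      IsConj ((ev hQ v : ↥QD) : DRu) (hQ 13) ∨ IsConj ((ev hQ v : ↥QD) : DRu) ((hQ 13 * hQ 14 : ↥QD) : DRu)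
    have step : ∀ es known out, es.all (edgeOK certTwo) = true → forest es known = some out →
        Good known → Good out := by
      intro es
      induction es with
      | nil =>
        intro known out _ e hg
        simp only [forest, Option.some.injEq] at e
        exact e ▸ hg
      | cons ed es ih =>
        intro known out hes e hg
        rw [List.all_cons, Bool.and_eq_true] at hes
        obtain ⟨h1, h2, hc⟩ := edge_conj H hes.1
        simp only [forest] at e
        cases hb : (Nat.testBit known (code ed.1) || Nat.testBit known (code ed.2.1)) with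
        | false => rw [hb, cond_false] at e; simp at e
        | true =>
          rw [hb, cond_true] at e
          refine ih _ out hes.2 e fun v hv hbit => ?_
          change (known ||| 2 ^ code ed.1 ||| 2 ^ code ed.2.1).testBit (code v) = true at hbit
          rw [Nat.testBit_or, Nat.testBit_or, Bool.or_eq_true, Bool.or_eq_true, Nat.testBit_two_pow,
            Nat.testBit_two_pow, decide_eq_true_eq, decide_eq_true_eq] at hbit
          rw [Bool.or_eq_true] at hb
          have g1 : IsConj ((ev hQ ed.1 : ↥QD) : DRu) (hQ 13) ∨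
              IsConj ((ev hQ ed.1 : ↥QD) : DRu) ((hQ 13 * hQ 14 : ↥QD) : DRu) := by
            rcases hb with hb | hb
            · exact hg _ h1 hb
            · exact (hg _ h2 hb).imp hc.trans hc.trans
          rcases hbit with (hbit | hbit) | hbit
          · exact hg v hv hbit
          · rwa [← code_inj h1 hv hbit]
          · rw [← code_inj h2 hv hbit]
            exact g1.imp hc.symm.trans hc.symm.trans
    have hroot : Good (Nat.lor (2 ^ code [13]) (2 ^ code [13, 14])) := by
      intro v hv hbit
      change (2 ^ code [13] ||| 2 ^ code [13, 14]).testBit (code v) = true at hbit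
      rw [Nat.testBit_or, Bool.or_eq_true, Nat.testBit_two_pow, Nat.testBit_two_pow, decide_eq_true_eq,
        decide_eq_true_eq] at hbit
      rcases hbit with hbit | hbit
      · refine Or.inl ?_
        rw [← code_inj (P := ruP) (j := 0) (k := 0) (l := [13]) (by decide) hv hbit]
        simp only [ev_cons, ev_nil, mul_one]
        exact IsConj.refl _
      · refine Or.inr ?_
        rw [← code_inj (P := ruP) (j := 0) (k := 0) (l := [13, 14]) (by decide) hv hbit]
        simp only [ev_cons, ev_nil, mul_one]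
        exact IsConj.refl _
    have hall : Data.edges.all (edgeOK certTwo) = true := by
      rw [Data.edges, List.all_append, List.all_append, List.all_append, edges0_ok, edges1_ok, edges2_ok, edges3_ok]
      rfl
    have hfo := forest_ok
    cases hout : forest Data.edges (Nat.lor (2 ^ code [13]) (2 ^ code [13, 14])) with
    | none => rw [hout] at hfo; simp at hfo
    | some out =>
      rw [hout] at hfo
      have e' : Data.invMask = out := Nat.eq_of_beq_eq_true hfo
      exact step _ _ out hall hout hroot l hl (e' ▸ e)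

omit H in
theorem mem_comW : (∀ a ∈ comW.1, a < 15) ∧ (∀ a ∈ comW.2, a < 15) ∧ (∀ a ∈ rootA, a < 15) ∧ ∀ a ∈ rootB, a < 15 := by
  decide

set_option maxHeartbeats 2000000 in
/-- Roots of the two central involutions in the second commutator term, none of the kernel. -/
theorem roots : (∃ y ∈ ⁅⁅(⊤ : Subgroup ↥QD), (⊤ : Subgroup ↥QD)⁆, (⊤ : Subgroup ↥QD)⁆, y * y = hQ 13) ∧
    (∃ y ∈ ⁅⁅(⊤ : Subgroup ↥QD), (⊤ : Subgroup ↥QD)⁆, (⊤ : Subgroup ↥QD)⁆, y * y = hQ 13 * hQ 14) ∧
    ∀ y ∈ ⁅⁅(⊤ : Subgroup ↥QD), (⊤ : Subgroup ↥QD)⁆, (⊤ : Subgroup ↥QD)⁆, y * y ≠ hQ 14 := by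
  haveI := finite_D H
  have F := full H
  obtain ⟨hempty, hA, hB⟩ := root_ok
  obtain ⟨-, -, hlA, hlB⟩ := mem_comW
  set c := ⁅hQ 0, hQ 1⁆ with hc
  have i0 := inv_hQ H (k := 0) (by norm_num)
  have i1 := inv_hQ H (k := 1) (by norm_num)
  have hc1 : ev hQ comW.1 = c := by
    rw [comW, ev_append, ev_append, i0, i1, hc, commutatorElement_def]
    simp [ev_cons, ev_nil]
  have hc2 : ev hQ comW.2 = c⁻¹ := by
    rw [comW, ev_append, ev_append, i0, i1, hc, commutatorElement_inv, commutatorElement_def]
    simp [ev_cons, ev_nil]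
  have eA : ev hQ rootA = ⁅c, hQ 0⁆ := by
    rw [rootA, ev_append, ev_append, ev_append, i0, hc1, hc2, commutatorElement_def]
    simp [ev_cons, ev_nil]
  have eB : ev hQ rootB = ⁅c, hQ 0 * hQ 1⁆ := by
    rw [rootB, ev_append, ev_append, ev_append, ev_append, i0, i1, hc1, hc2, commutatorElement_def, mul_inv_rev]
    simp [ev_cons, ev_nil]
  have hmemc : c ∈ ⁅(⊤ : Subgroup ↥QD), (⊤ : Subgroup ↥QD)⁆ := commutator_mem_commutator (mem_top _) (mem_top _)
  refine ⟨⟨ev hQ rootA, eA ▸ commutator_mem_commutator hmemc (mem_top _), ?_⟩,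
    ⟨ev hQ rootB, eB ▸ commutator_mem_commutator hmemc (mem_top _), ?_⟩, ?_⟩
  · have := Pres.same_eq F (P := ruP) (v := rootA ++ rootA) (w := [13]) (fun a ha => by
      rcases List.mem_append.mp ha with ha | ha <;> exact hlA a ha) (by simp [ruP]) hA
    simpa [ev_append, ev_cons, ev_nil] using this
  · have := Pres.same_eq F (P := ruP) (v := rootB ++ rootB) (w := [13, 14]) (fun a ha => by
      rcases List.mem_append.mp ha with ha | ha <;> exact hlB a ha) (by simp [ruP]) hB
    simpa [ev_append, ev_cons, ev_nil] using this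
  -- the quotient by the sixth term has class two
  haveI := Pres.term_normal F 6
  set π := QuotientGroup.mk' (ruP.term hQ 6)
  set Z := Subgroup.center (↥QD ⧸ ruP.term hQ 6)
  have hgen : closure (π '' (hQ '' {i | i < 3})) = ⊤ := by
    rw [← MonoidHom.map_closure, ← Subgroup.map_top_of_surjective π (QuotientGroup.mk'_surjective _)]
    congr 1
    rw [eq_top_iff, ← F.top, closure_le]
    rintro _ ⟨k, hk, rfl⟩
    have h := List.all_eq_true.mp gens_ok'.1 k (List.mem_range.mpr hk)
    simp only [Bool.and_eq_true, List.all_eq_true, Nat.blt_eq] at h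
    obtain ⟨⟨⟨⟨-, hs⟩, h3⟩, -⟩, -⟩ := h
    have e := Pres.same_eq F (P := ruP) (v := [k]) (w := Data.threeW.getD k []) (by simpa using hk)
      (fun x hx => (h3 x hx).trans (by decide)) hs
    rw [show hQ k = ev hQ (Data.threeW.getD k []) by rw [← e]; simp [ev_cons, ev_nil]]
    refine list_prod_mem fun w hw => ?_
    obtain ⟨x, hx, rfl⟩ := List.mem_map.mp hw
    exact subset_closure ⟨x, h3 x hx, rfl⟩
  have hcomm : ∀ i j, i < j → j < 3 → ⁅π (hQ j), π (hQ i)⁆ ∈ Z := by
    intro i j hij hj
    obtain ⟨w, hw, hw'⟩ := Pres.rhs_conj F hij (show j < ruP.n from hj.trans (by decide))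
    have hcl := List.all_eq_true.mp class_two
    have hk : ∀ k < 3, congrB ruP 6 (w ++ [k]) (k :: w) = true := fun k hk => by
      have hpair : ∃ q, ([i, j], q) ∈ ([([0, 1], 2), ([0, 2], 4), ([1, 2], 5)] : List (List ℕ × ℕ)) := by
        interval_cases j <;> interval_cases i <;> simp
      obtain ⟨q, hq⟩ := hpair
      have := List.all_eq_true.mp (hcl _ hq) k (by simp; omega)
      simpa [hw] using this
    have hwc : π (ev hQ w) ∈ Z := by
      refine mem_center_iff.mpr fun y => ?_
      have : closure (π '' (hQ '' {i | i < 3})) ≤ centralizer ({π (ev hQ w)} : Set _) := by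
        rw [closure_le]
        rintro _ ⟨_, ⟨k, hk3, rfl⟩, rfl⟩
        refine mem_centralizer_singleton_iff.mpr ?_
        have hb := hk k hk3
        have hk15 : k < 15 := (show k < 3 from hk3).trans (by norm_num)
        rw [congrB] at hb
        split at hb
        · rename_i a b ha hb'
          simp only [Bool.and_eq_true, decide_eq_true_eq] at hb
          obtain ⟨⟨na, nb⟩, e⟩ := hb
          have e1 := mk_cut H (k := 6) na
          have e2 := mk_cut H (k := 6) nb
          rw [e, e2] at e1
          rw [← Pres.run_eq F (fun x hx => ?_) ha, ← Pres.run_eq F (fun x hx => ?_) hb', ev_append, ev_cons, ev_cons, ev_nil,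
            mul_one, map_mul, map_mul] at e1
          · exact e1
          · rcases List.mem_cons.mp hx with rfl | hx
            · exact hk15
            · exact (hw' x hx).2
          · rcases List.mem_append.mp hx with hx | hx
            · exact (hw' x hx).2
            · rw [List.mem_singleton.mp hx]; exact hk15
        · simp at hb
      exact mem_centralizer_singleton_iff.mp (this (hgen ▸ mem_top y))
    have e := congrArg π (F.rels i j hij.le (show j < ruP.n from hj.trans (by decide)))
    rw [hw, ev_cons, ev_cons, map_mul, map_mul, map_mul] at e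
    have : ⁅π (hQ j), π (hQ i)⁆ = π (ev hQ w) := by
      rw [commutatorElement_def, e]
      have hc := mem_center_iff.mp hwc ((π (hQ j))⁻¹ * (π (hQ i))⁻¹)
      calc π (hQ i) * (π (hQ j) * π (ev hQ w)) * (π (hQ j))⁻¹ * (π (hQ i))⁻¹
          = π (hQ i) * π (hQ j) * (π (ev hQ w) * ((π (hQ j))⁻¹ * (π (hQ i))⁻¹)) := by group
        _ = π (hQ i) * π (hQ j) * ((π (hQ j))⁻¹ * (π (hQ i))⁻¹ * π (ev hQ w)) := by rw [hc]
        _ = π (ev hQ w) := by group
    rw [this]; exact hwc
  have habel : ⁅(⊤ : Subgroup (↥QD ⧸ ruP.term hQ 6)), ⊤⁆ ≤ Z := by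
    set ρ := QuotientGroup.mk' Z
    have hg : closure (ρ '' (π '' (hQ '' {i | i < 3}))) = ⊤ := by
      rw [← MonoidHom.map_closure, hgen, Subgroup.map_top_of_surjective ρ (QuotientGroup.mk'_surjective _)]
    have hab : ∀ a b, a < 3 → b < 3 → ρ (π (hQ a)) * ρ (π (hQ b)) = ρ (π (hQ b)) * ρ (π (hQ a)) := by
      intro a b ha hb
      have : ∀ i j, i < j → j < 3 → ρ (π (hQ j)) * ρ (π (hQ i)) = ρ (π (hQ i)) * ρ (π (hQ j)) := fun i j h1 h2 => by
        refine commutatorElement_eq_one_iff_mul_comm.mp ?_
        rw [← map_commutatorElement]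
        exact (QuotientGroup.eq_one_iff _).mpr (hcomm i j h1 h2)
      rcases Nat.lt_trichotomy a b with h | rfl | h
      · exact (this a b h hb).symm
      · rfl
      · exact this b a h ha
    have hcent : ∀ p q : (↥QD ⧸ ruP.term hQ 6) ⧸ Z, p * q = q * p := by
      have h1 : ∀ a < 3, ∀ q, ρ (π (hQ a)) * q = q * ρ (π (hQ a)) := fun a ha q => by
        have : closure (ρ '' (π '' (hQ '' {i | i < 3}))) ≤ centralizer {ρ (π (hQ a))} := by
          rw [closure_le]
          rintro _ ⟨_, ⟨_, ⟨b, hb, rfl⟩, rfl⟩, rfl⟩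
          exact mem_centralizer_singleton_iff.mpr (hab b a hb ha)
        exact (mem_centralizer_singleton_iff.mp (this (hg ▸ mem_top q))).symm
      intro p q
      have : closure (ρ '' (π '' (hQ '' {i | i < 3}))) ≤ centralizer {q} := by
        rw [closure_le]
        rintro _ ⟨_, ⟨_, ⟨b, hb, rfl⟩, rfl⟩, rfl⟩
        exact mem_centralizer_singleton_iff.mpr (h1 b hb q)
      exact mem_centralizer_singleton_iff.mp (this (hg ▸ mem_top p))
    rw [commutator_le]
    intro a _ b _
    rw [← QuotientGroup.eq_one_iff]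
    show ρ ⁅a, b⁆ = 1
    rw [map_commutatorElement, commutatorElement_eq_one_iff_mul_comm]
    exact hcent _ _
  intro y hy hyz
  have hy6 : y ∈ ruP.term hQ 6 := by
    have : π y ∈ (⁅⁅(⊤ : Subgroup ↥QD), (⊤ : Subgroup ↥QD)⁆, (⊤ : Subgroup ↥QD)⁆).map π := ⟨y, hy, rfl⟩
    rw [map_commutator, map_commutator, Subgroup.map_top_of_surjective π (QuotientGroup.mk'_surjective _)] at this
    have hbot : ⁅⁅(⊤ : Subgroup (↥QD ⧸ ruP.term hQ 6)), (⊤ : Subgroup (↥QD ⧸ ruP.term hQ 6))⁆,
        (⊤ : Subgroup (↥QD ⧸ ruP.term hQ 6))⁆ ≤ ⊥ := by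
      refine (commutator_mono habel le_rfl).trans (le_of_eq ?_)
      rw [commutator_eq_bot_iff_le_centralizer]
      intro a ha
      exact mem_centralizer_iff.mpr fun b _ => mem_center_iff.mp ha b
    exact (QuotientGroup.eq_one_iff y).mp (mem_bot.mp (hbot this))
  obtain ⟨l, hl, rfl⟩ := Pres.exists_normal F 9 6 (by decide) y hy6
  have hl0 : ruP.normalFrom 0 l = true := by
    cases l with
    | nil => rfl
    | cons a l =>
      simp only [Pres.normalFrom, Bool.and_eq_true, Nat.ble_eq, Nat.blt_eq] at hl ⊢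
      exact ⟨⟨Nat.zero_le _, hl.1.2⟩, hl.2⟩
  have hmem : l ∈ rootTree := by
    refine Pres.mem_tree F hl0 fun k => Bool.and_eq_true_iff.mpr ⟨?_, ?_⟩
    · exact List.all_eq_true.mpr fun x hx =>
        Nat.ble_eq.mpr (Pres.normalFrom_lt hl x (List.mem_filter.mp hx).1).1
    · haveI := Pres.term_normal F k
      refine Pres.agree_true F ?_ (by simp [ruP]) (QuotientGroup.eq.mp ?_)
      · intro a ha
        rcases List.mem_append.mp ha with ha | ha <;> exact Pres.lt_of_nf F hl0 a ha
      · show QuotientGroup.mk' _ _ = QuotientGroup.mk' _ _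
        rw [ev_append, map_mul, mk_cut H hl0, ← map_mul, hyz, ev_cons, ev_nil, mul_one]
  rw [List.isEmpty_iff] at hempty
  rw [hempty] at hmem
  simp at hmem

theorem hQ_ne : hQ 13 ≠ hQ 14 ∧ hQ 13 ≠ 1 := by
  haveI := finite_D H
  have F := full H
  have e : ∀ k, ev hQ [k] = hQ k := fun k => by simp [ev_cons, ev_nil]
  refine ⟨fun h => ?_, fun h => ?_⟩
  · rw [← e, ← e] at h
    exact absurd (Pres.nf_unique F (P := ruP) (by decide) (by decide) h) (by decide)
  · rw [← e, ← ev_nil (g := hQ)] at h
    exact absurd (Pres.nf_unique F (P := ruP) (by decide) (by decide) h) (by decide)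

end CfsgLib.StdRu
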