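/-
The centre of a standard double cover of the Rudvalis group with cyclic centraliser Sylow 2-subgroups is isolated.
-/
import Cfsg.Prelude.Def_Local
import Cfsg.Prelude.Def_Spor_Ru
import Cfsg.Agent.Lib.StdRu.Sylow
import Cfsg.Agent.Lib.StdRu.Cover
import Cfsg.Agent.Lib.StdRu.Fusion
import Cfsg.Agent.S1627

set_option autoImplicit false
set_option linter.unusedSectionVars false
set_option linter.style.haveILetI false

namespace CfsgLib.StdRu

open Subgroup CfsgLib.RuMult
open scoped commutatorElement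

universe u

/-- The centre of the component is isolated and its centraliser normalises the component. -/
theorem isolated_centre {G : Type u} [Group G] [Finite G] (A : Subgroup G) (hA : Cfsg.IsStandardSubgroup A)
    (hZ : Nat.card ↥(Subgroup.center ↥A) = 2) (hAX : Cfsg.Spor.IsoRu (↥A ⧸ Subgroup.center ↥A))
    (hR : ∀ R : Sylow 2 ↥(Subgroup.centralizer (A : Set G)),
      IsCyclic ↥(R : Subgroup ↥(Subgroup.centralizer (A : Set G)))) :
    ∃ z : G, z ≠ 1 ∧ z * z = 1 ∧ Cfsg.IsIsolated z ∧ centralizer ({z} : Set G) = normalizer (A : Set G) := by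
  classical
  haveI : Fact (Nat.Prime 2) := ⟨Nat.prime_two⟩
  obtain ⟨hq, hte, -, hN⟩ := hA
  obtain ⟨e0⟩ := hAX
  obtain ⟨h1, h2, h3⟩ := Cfsg.Agent.S1627.result
  have H : RuMult.Facts := ⟨h1, h2, h3⟩
  have hperf : _root_.commutator ↥A = ⊤ := by
    haveI := hq.1
    exact Group.IsPerfect.commutator_eq_top
  obtain ⟨f⟩ := cover_iso H hperf hZ e0
  haveI := finite_D H
  let ι : DRu →* G := A.subtype.comp f.toMonoidHom
  have hι : Function.Injective ι := A.subtype_injective.comp f.injective
  set z : G := ι (hQ 14) with hzdef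
  have hzv : ((hQ 14 : ↥QD) : DRu) = gD 14 := hQ_fourteen H
  have hcD : ∀ d : DRu, d * (hQ 14 : DRu) = (hQ 14 : DRu) * d := fun d => Subtype.ext (by
    rw [Subgroup.coe_mul, Subgroup.coe_mul, hzv, gD_fourteen H]
    exact ((show Commute (d : ↥Cfsg.Spor.fourRu) iU from iU_central _).mul_right (iU_central _)).eq)
  have hz2 : (hQ 14 : DRu) * (hQ 14 : DRu) = 1 := Subtype.ext (by
    rw [Subgroup.coe_mul, hzv, gD_fourteen H, ← mul_assoc]
    have := iU_four
    simpa [pow_succ, mul_assoc] using this)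
  have hz1 : (hQ 14 : DRu) ≠ 1 := fun h => by
    have := congrArg Subtype.val h
    rw [hzv, gD_fourteen H] at this
    exact iU_sq_ne this
  have hzA : z ∈ A := (f (hQ 14 : DRu)).2
  have hzne : z ≠ 1 := fun h => hz1 (hι (h.trans (map_one ι).symm))
  have hzsq : z * z = 1 := by rw [hzdef, ← map_mul, hz2, map_one]
  have hzc : ∀ a ∈ A, a * z = z * a := fun a ha => by
    obtain ⟨d, hd⟩ := f.surjective ⟨a, ha⟩
    have : ι d = a := congrArg Subtype.val hd
    rw [← this, hzdef, ← map_mul, hcD, map_mul]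
  have hcen : ∀ a : ↥A, a ∈ Subgroup.center ↥A ↔ a = 1 ∨ (a : G) = z := by
    have hmem : (⟨z, hzA⟩ : ↥A) ∈ Subgroup.center ↥A := mem_center_iff.mpr fun a => Subtype.ext (hzc a a.2)
    haveI := Fintype.ofFinite ↥(Subgroup.center ↥A)
    have hcard : Fintype.card ↥(Subgroup.center ↥A) = 2 := by rw [← Nat.card_eq_fintype_card, hZ]
    intro a
    refine ⟨fun ha => ?_, fun h => ?_⟩
    · by_contra hne
      push Not at hne
      have h3 : ({1, ⟨⟨z, hzA⟩, hmem⟩, ⟨a, ha⟩} : Finset ↥(Subgroup.center ↥A)).card = 3 := by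
        rw [Finset.card_eq_three]
        refine ⟨_, _, _, ?_, ?_, ?_, rfl⟩
        · exact fun h => hzne (congrArg (fun y : ↥(Subgroup.center ↥A) => ((y : ↥A) : G)) h).symm
        · exact fun h => hne.1 (congrArg Subtype.val h).symm
        · exact fun h => hne.2 (congrArg (fun y : ↥(Subgroup.center ↥A) => ((y : ↥A) : G)) h).symm
      have := Finset.card_le_univ ({1, ⟨⟨z, hzA⟩, hmem⟩, ⟨a, ha⟩} : Finset ↥(Subgroup.center ↥A))
      omega
    · rcases h with rfl | h
      · exact one_mem _
      · rwa [show a = ⟨z, hzA⟩ from Subtype.ext h]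
  set K := centralizer (A : Set G) with hK
  have hzK : z ∈ K := mem_centralizer_iff.mpr hzc
  have ho2 : orderOf z = 2 := orderOf_eq_prime (by rw [pow_two]; exact hzsq) hzne
  have hcent : centralizer ({z} : Set G) = normalizer (A : Set G) := by
    refine le_antisymm (fun g hg => ?_) (fun n hn => mem_centralizer_singleton_iff.mpr ?_)
    · rw [hN]
      by_contra hgn
      have hodd := hte.2 g hgn
      have hmem : z ∈ K ⊓ K.map (MulAut.conj g).toMonoidHom :=
        mem_inf.mpr ⟨hzK, ⟨z, hzK, by simp [MulAut.conj_apply, mem_centralizer_singleton_iff.mp hg]⟩⟩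
      have h2 : 2 ∣ Nat.card ↥(K ⊓ K.map (MulAut.conj g).toMonoidHom) := by
        have h := Subgroup.orderOf_dvd_natCard _ hmem
        rwa [ho2] at h
      exact (Nat.not_even_iff_odd.mpr hodd) (even_iff_two_dvd.mpr h2)
    · have hzn : n * z * n⁻¹ ∈ A := (mem_normalizer_iff.mp hn _).mp hzA
      have : (⟨n * z * n⁻¹, hzn⟩ : ↥A) ∈ Subgroup.center ↥A := mem_center_iff.mpr fun a => Subtype.ext (by
        have ha : n⁻¹ * a * n ∈ A := (mem_normalizer_iff''.mp hn _).mp a.2
        show (a : G) * (n * z * n⁻¹) = n * z * n⁻¹ * a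
        calc (a : G) * (n * z * n⁻¹) = n * ((n⁻¹ * a * n) * z) * n⁻¹ := by group
          _ = n * (z * (n⁻¹ * a * n)) * n⁻¹ := by rw [hzc _ ha]
          _ = n * z * n⁻¹ * a := by group)
      rcases (hcen _).mp this with h | h
      · exact absurd (conj_eq_one_iff.mp (congrArg Subtype.val h)) hzne
      · exact mul_inv_eq_iff_eq_mul.mp h
  have hinv : ∀ k ∈ K, k * k = 1 → k = 1 ∨ k = z := by
    intro k hk hk2
    by_cases h1 : k = 1
    · exact Or.inl h1
    refine Or.inr ?_
    have hkz : Commute k z := (mem_centralizer_iff.mp hk _ hzA).symm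
    have hk0 : orderOf k = 2 := orderOf_eq_prime (by rw [pow_two]; exact hk2) h1
    set a' : ↥K := ⟨k, hk⟩
    set b' : ↥K := ⟨z, hzK⟩
    have h2 : ∀ {x : ↥K}, orderOf (x : G) = 2 → IsPGroup 2 ↥(zpowers x) := fun {x} hx => by
      refine IsPGroup.of_card (n := 1) ?_
      rw [Nat.card_zpowers, ← Subgroup.orderOf_coe, hx, pow_one]
    have hn : zpowers a' ≤ normalizer (zpowers b' : Set ↥K) := by
      refine le_trans ?_ (Subgroup.centralizer_le_normalizer _)
      rw [zpowers_le]
      refine mem_centralizer_iff.mpr fun x hx => ?_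
      obtain ⟨i, rfl⟩ := mem_zpowers_iff.mp hx
      exact ((show Commute a' b' from Subtype.ext hkz.eq).zpow_right i).eq.symm
    obtain ⟨R, hRle⟩ := ((h2 (x := a') hk0).to_sup_of_normal_right' (h2 (x := b') ho2) hn).exists_le_sylow
    haveI := hR R
    let a1 : ↥(R : Subgroup ↥K) := ⟨a', hRle (mem_sup_left (mem_zpowers _))⟩
    let b1 : ↥(R : Subgroup ↥K) := ⟨b', hRle (mem_sup_right (mem_zpowers _))⟩
    have hA1 : orderOf a1 = 2 := by rw [← Subgroup.orderOf_coe, ← Subgroup.orderOf_coe]; exact hk0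
    have hB1 : orderOf b1 = 2 := by rw [← Subgroup.orderOf_coe, ← Subgroup.orderOf_coe]; exact ho2
    haveI := Fintype.ofFinite ↥(R : Subgroup ↥K)
    have h1' : (Finset.univ.filter fun x : ↥(R : Subgroup ↥K) => orderOf x = 2).card = 1 := by
      rw [IsCyclic.card_orderOf_eq_totient (by have h2 := orderOf_dvd_card (x := a1); rwa [hA1] at h2)]; rfl
    exact congrArg (fun x : ↥(R : Subgroup ↥K) => ((x : ↥K) : G))
      (Finset.card_le_one.mp h1'.le a1 (by simp [hA1]) b1 (by simp [hB1]))
  -- the Sylow 2-subgroup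
  have hpg : IsPGroup 2 ↥(QD.map f.toMonoidHom) := IsPGroup.of_card (n := 15) (by
    rw [← Nat.card_congr (QD.equivMapOfInjective f.toMonoidHom f.injective).toEquiv, card_QD H])
  have hidx : ¬ 2 ∣ (QD.map f.toMonoidHom).index := by
    have e : (QD.map f.toMonoidHom).index = QD.index := index_map_equiv QD f
    have := Subgroup.card_mul_index QD
    rw [card_QD H, card_commutator H] at this
    rw [e, show QD.index = 8906625 by norm_num at this; omega]
    norm_num
  have hSy : ((hpg.toSylow hidx : Sylow 2 ↥A) : Subgroup ↥A).map A.subtype = QD.map ι := by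
    show (QD.map f.toMonoidHom).map A.subtype = _
    rw [map_map]
  have hSS : ∀ y, y ∈ QD.map ι ↔ ∃ u : ↥QD, ι u = y := fun y =>
    ⟨fun ⟨u, hu, e⟩ => ⟨⟨u, hu⟩, e⟩, fun ⟨u, e⟩ => ⟨u, u.2, e⟩⟩
  have hS' : QD.map ι = (⊤ : Subgroup ↥QD).map (ι.comp QD.subtype) := by
    rw [← MonoidHom.range_eq_map, MonoidHom.range_comp, Subgroup.range_subtype]
  have hinj : Function.Injective (ι.comp QD.subtype) := hι.comp QD.subtype_injective
  have hκ : ∀ u : ↥QD, (ι.comp QD.subtype) u = ι u := fun _ => rfl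
  have hγ : ⁅⁅QD.map ι, QD.map ι⁆, QD.map ι⁆ =
      (⁅⁅(⊤ : Subgroup ↥QD), (⊤ : Subgroup ↥QD)⁆, (⊤ : Subgroup ↥QD)⁆).map (ι.comp QD.subtype) := by
    rw [map_commutator, map_commutator, hS']
  obtain ⟨hc13, hsq13⟩ := central_two H
  obtain ⟨⟨y1, hy1, e1⟩, ⟨y2, hy2, e2⟩, hno⟩ := roots H
  let D : Cfg G :=
    { A := A
      z := z
      zA := hzA
      z_ne := hzne
      z_sq := hzsq
      z_cent := hzc
      dec := fun n hn => norm_dec hperf (e0) (by rw [← hcent, mem_centralizer_singleton_iff]; exact hn)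
      inter := fun a ha hak => by
        have : (⟨a, ha⟩ : ↥A) ∈ Subgroup.center ↥A :=
          mem_center_iff.mpr fun b => Subtype.ext (mem_centralizer_iff.mp hak b b.2)
        exact ((hcen _).mp this).imp (congrArg Subtype.val) id
      inv_K := hinv
      cyc := hR
      Q := hpg.toSylow hidx
      c := ι (hQ 13)
      d := ι ((hQ 13 * hQ 14 : ↥QD) : DRu)
      c_sq := by rw [← map_mul, ← Subgroup.coe_mul, hsq13, Subgroup.coe_one, map_one]
      zc := by rw [hzdef, ← map_mul, ← hcD, ← Subgroup.coe_mul]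
      c_ne := fun h => (hQ_ne H).1 (Subtype.ext (hι h))
      d_ne := fun h => (hQ_ne H).2 (mul_right_cancel (b := hQ 14) (by rw [one_mul]; exact Subtype.ext (hι h)))
      c_mem := by rw [hSy]; exact ⟨_, (hQ 13).2, rfl⟩
      centre := by
        rw [hSy]
        intro s hs hc
        obtain ⟨u, rfl⟩ := (hSS s).mp hs
        have hu : ∀ v : ↥QD, u * v = v * u := fun v => Subtype.ext (hι (by
          rw [Subgroup.coe_mul, Subgroup.coe_mul, map_mul, map_mul]
          exact hc _ ((hSS _).mpr ⟨v, rfl⟩)))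
        rcases centre_QD H hu with rfl | rfl | rfl | rfl
        · exact Or.inl (by rw [Subgroup.coe_one, map_one])
        · exact Or.inr (Or.inr (Or.inl rfl))
        · exact Or.inr (Or.inl rfl)
        · exact Or.inr (Or.inr (Or.inr rfl))
      c_cen := by
        rw [hSy]
        intro u hu
        obtain ⟨v, rfl⟩ := (hSS u).mp hu
        rw [← map_mul, ← map_mul, ← Subgroup.coe_mul, hc13, Subgroup.coe_mul]
      classes := fun y hy hy2 hy1 hyz => by
        have hpy : IsPGroup 2 ↥(zpowers (⟨y, hy⟩ : ↥A)) := by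
          refine IsPGroup.of_card (n := 1) ?_
          rw [Nat.card_zpowers, pow_one]
          exact orderOf_eq_prime (Subtype.ext (by rw [SubmonoidClass.coe_pow, pow_two, hy2]; rfl))
            fun h => hy1 (congrArg Subtype.val h)
        obtain ⟨Q', hQ'⟩ := hpy.exists_le_sylow
        obtain ⟨b, hb⟩ := MulAction.exists_smul_eq ↥A Q' (hpg.toSylow hidx)
        have hm : b * ⟨y, hy⟩ * b⁻¹ ∈ QD.map f.toMonoidHom := by
          have h1 : b * ⟨y, hy⟩ * b⁻¹ ∈ ((b • Q' : Sylow 2 ↥A) : Subgroup ↥A) := by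
            rw [Sylow.coe_subgroup_smul]
            exact ⟨_, hQ' (mem_zpowers _), rfl⟩
          rw [hb] at h1
          exact h1
        obtain ⟨u, hu, eu⟩ := hm
        have eu' : ι u = (b : G) * y * (b : G)⁻¹ := congrArg Subtype.val eu
        have hu2 : (⟨u, hu⟩ : ↥QD) * ⟨u, hu⟩ = 1 := Subtype.ext (hι (by
          rw [Subgroup.coe_mul, map_mul, eu', Subgroup.coe_one, map_one,
            show (b : G) * y * (b : G)⁻¹ * ((b : G) * y * (b : G)⁻¹) = (b : G) * (y * y) * (b : G)⁻¹ by group, hy2,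
            mul_one, mul_inv_cancel]))
        rcases invols H hu2 with h | h | h
        · exfalso
          rw [show u = 1 from congrArg Subtype.val h, map_one] at eu'
          exact hy1 (conj_eq_one_iff.mp eu'.symm)
        · exfalso
          rw [show u = (hQ 14 : DRu) from congrArg Subtype.val h] at eu'
          refine hyz (mul_left_cancel (a := (b : G)) ?_)
          rw [hzc _ b.2]
          exact mul_inv_eq_iff_eq_mul.mp eu'.symm
        · have key : ∀ w : DRu, IsConj u w → ∃ a ∈ A, a * y * a⁻¹ = ι w := fun w hw => by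
            obtain ⟨c, hc⟩ := isConj_iff.mp hw
            refine ⟨ι c * b, mul_mem (f c).2 b.2, ?_⟩
            rw [← hc, map_mul, map_mul, map_inv, eu']
            group
          rcases h with h | h
          · obtain ⟨a, ha, e⟩ := key _ h
            exact ⟨a, ha, Or.inl e⟩
          · obtain ⟨a, ha, e⟩ := key _ h
            exact ⟨a, ha, Or.inr e⟩
      c_root := by
        rw [hSy, hγ]
        exact ⟨_, ⟨y1, hy1, rfl⟩, by rw [← map_mul, e1, hκ]⟩
      d_root := by
        rw [hSy, hγ]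
        exact ⟨_, ⟨y2, hy2, rfl⟩, by rw [← map_mul, e2, hκ]⟩
      z_no_root := by
        rw [hSy, hγ]
        rintro _ ⟨y, hy, rfl⟩ h
        rw [← map_mul] at h
        exact hno y hy (hinj h) }
  exact ⟨z, hzne, hzsq, D.isolated, hcent⟩

end CfsgLib.StdRu
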