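/-
Groups of order `2 ^ n` given by relations adapted to a normal series: collection, normal words, searches through
the quotients of the series.
-/
import Cfsg.Agent.Lib.StemSylow.Collect

set_option autoImplicit false
set_option linter.unusedSectionVars false

namespace CfsgLib.StdRu

open Subgroup CfsgLib.StemSylow.Collect

/-- Rewriting tables: the word replacing `j i` for `i ≤ j`. -/
structure Pres where
  n : ℕ
  tab : List (List (List ℕ))

namespace Pres

variable (P : Pres)

/-- The word replacing `j i`. -/
def rhs (i j : ℕ) : List ℕ := (P.tab.getD i []).getD j []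

/-- Collection; the first word is reversed and normal. -/
def col : ℕ → List ℕ → List ℕ → Option (List ℕ)
  | 0, _, _ => none
  | _ + 1, x, [] => some x.reverse
  | k + 1, [], i :: w => col k [i] w
  | k + 1, j :: x, i :: w =>
    bif Nat.blt j i then col k (i :: j :: x) w else col k x (P.rhs i j ++ w)

/-- Strictly increasing from at least `k`, below `n`. -/
def normalFrom : ℕ → List ℕ → Bool
  | _, [] => true
  | k, a :: l => Nat.ble k a && Nat.blt a P.n && normalFrom (a + 1) l

/-- The shape of the tables. -/
def shapeOK : Bool :=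
  (List.range P.n).all fun i => (List.range P.n).all fun j =>
    Nat.blt j i ||
      bif Nat.beq j i then (P.rhs i j).all (fun x => Nat.blt i x && Nat.blt x P.n)
      else match P.rhs i j with
        | [] => false
        | [_] => false
        | a :: b :: l => Nat.beq a i && Nat.beq b j && l.all fun x => Nat.blt j x && Nat.blt x P.n

/-- The collected word, with generous fuel. -/
def run (w : List ℕ) : Option (List ℕ) := P.col 20000 [] w

/-- Both words collect to the same normal word. -/
def same (v w : List ℕ) : Bool :=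
  match P.run v, P.run w with
  | some a, some b => decide (a = b)
  | _, _ => false

/-- The indices below `k`. -/
def cut (k : ℕ) (l : List ℕ) : List ℕ := l.filter fun x => Nat.blt x k

/-- The collected word can vanish modulo the `k`th term. -/
def liesIn (k : ℕ) (w : List ℕ) : Bool :=
  match P.run w with
  | some y => !(P.normalFrom 0 y) || y.all fun x => Nat.ble k x
  | none => true

/-- The collected words can agree modulo the `k`th term. -/
def agree (k : ℕ) (v w : List ℕ) : Bool :=
  match P.run v, P.run w with
  | some a, some b => !(P.normalFrom 0 a && P.normalFrom 0 b) || decide (cut k a = cut k b)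
  | _, _ => true

/-- The prefixes surviving a test through the first `k` steps. -/
def tree (test : ℕ → List ℕ → Bool) : ℕ → List (List ℕ)
  | 0 => [[]]
  | k + 1 => (tree test k).flatMap fun u => [u, u ++ [k]].filter (test (k + 1))

variable {G : Type*} [Group G] (h : ℕ → G)

/-- The relations hold. -/
def Rels : Prop := ∀ i j, i ≤ j → j < P.n → h j * h i = ev h (P.rhs i j)

variable {P h}

theorem col_sound (hr : P.Rels h) : ∀ k x w y, (∀ a ∈ x, a < P.n) → (∀ a ∈ w, a < P.n) → P.shapeOK = true →
    P.col k x w = some y → ev h (x.reverse ++ w) = ev h y := by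
  intro k
  induction k with
  | zero => intro x w y _ _ _ e; simp [col] at e
  | succ k ih =>
    intro x w y hx hw hs e
    match x, w with
    | x, [] =>
      simp [col] at e
      rw [← e, List.append_nil]
    | [], i :: w =>
      simp only [col] at e
      simpa using ih [i] w y (fun a ha => hw a (by simp_all)) (fun a ha => hw a (List.mem_cons_of_mem _ ha)) hs e
    | j :: x, i :: w =>
      simp only [col] at e
      have hj : j < P.n := hx j (List.mem_cons_self ..)
      have hi : i < P.n := hw i (List.mem_cons_self ..)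
      have hx' : ∀ a ∈ x, a < P.n := fun a ha => hx a (List.mem_cons_of_mem _ ha)
      have hw' : ∀ a ∈ w, a < P.n := fun a ha => hw a (List.mem_cons_of_mem _ ha)
      cases hb : Nat.blt j i with
      | true =>
        rw [hb, cond_true] at e
        simpa using ih (i :: j :: x) w y (by simpa [hi, hj] using hx') hw' hs e
      | false =>
        rw [hb, cond_false] at e
        have hij : i ≤ j := by
          by_contra hc
          rw [Nat.blt_eq.mpr (by omega)] at hb
          exact Bool.noConfusion hb
        have hsh := List.all_eq_true.mp (List.all_eq_true.mp hs i (List.mem_range.mpr hi)) j (List.mem_range.mpr hj)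
        rw [hb, Bool.false_or] at hsh
        have hlt : ∀ a ∈ P.rhs i j, a < P.n := by
          cases he : Nat.beq j i with
          | true =>
            rw [he, cond_true] at hsh
            intro a ha
            have := List.all_eq_true.mp hsh a ha
            simp only [Bool.and_eq_true, Nat.blt_eq] at this
            exact this.2
          | false =>
            rw [he, cond_false] at hsh
            intro a ha
            split at hsh
            · simp at hsh
            · simp at hsh
            · rename_i p q l hl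
              simp only [Bool.and_eq_true, List.all_eq_true, Nat.blt_eq] at hsh
              rw [hl] at ha
              rcases List.mem_cons.mp ha with rfl | ha
              · rw [Nat.eq_of_beq_eq_true hsh.1.1]; exact hi
              rcases List.mem_cons.mp ha with rfl | ha
              · rw [Nat.eq_of_beq_eq_true hsh.1.2]; exact hj
              · exact (hsh.2 a ha).2
        rw [← ih x (P.rhs i j ++ w) y hx' (by
          intro a ha
          rcases List.mem_append.mp ha with ha | ha
          exacts [hlt a ha, hw' a ha]) hs e, List.reverse_cons, List.append_assoc, List.singleton_append, ev_append,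
          ev_append, ev_cons, ev_cons, ev_append, ← hr i j hij hj]
        simp only [mul_assoc]

theorem normalFrom_lt : ∀ {k : ℕ} {l : List ℕ}, P.normalFrom k l = true → ∀ a ∈ l, k ≤ a ∧ a < P.n := by
  intro k l
  induction l generalizing k with
  | nil => simp
  | cons b l ih =>
    intro e a ha
    simp only [normalFrom, Bool.and_eq_true, Nat.ble_eq, Nat.blt_eq] at e
    rcases List.mem_cons.mp ha with rfl | ha
    · exact e.1
    · have := ih e.2 a ha
      omega

variable (P h)

/-- The terms of the series. -/
def term (k : ℕ) : Subgroup G := closure (h '' {i | k ≤ i ∧ i < P.n})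

/-- Words in the generators of the series. -/
def nfs : ℕ → ℕ → List (List ℕ)
  | _, 0 => [[]]
  | k, d + 1 => (nfs (k + 1) d).flatMap fun l => [l, k :: l]

/-- The generators with relations give a group of the full order. -/
structure Full : Prop where
  shape : P.shapeOK = true
  rels : P.Rels h
  top : closure (h '' {i | i < P.n}) = ⊤
  card : 2 ^ P.n ≤ Nat.card G

variable {P h}

theorem nfs_length : ∀ d k : ℕ, (nfs k d).length = 2 ^ d
  | 0, _ => rfl
  | d + 1, k => by
    simp [nfs, List.length_flatMap, nfs_length d (k + 1), pow_succ]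

theorem nfs_normal : ∀ d k : ℕ, k + d = P.n → ∀ l ∈ nfs k d, P.normalFrom k l = true := by
  intro d
  induction d with
  | zero => intro k _ l hl; simp [nfs] at hl; subst hl; rfl
  | succ d ih =>
    intro k hk l hl
    simp only [nfs, List.mem_flatMap, List.mem_cons, List.not_mem_nil, or_false] at hl
    obtain ⟨m, hm, rfl | rfl⟩ := hl
    · have := ih (k + 1) (by omega) l hm
      cases l with
      | nil => rfl
      | cons a l =>
        simp only [normalFrom, Bool.and_eq_true, Nat.ble_eq, Nat.blt_eq] at this ⊢
        exact ⟨⟨by omega, this.1.2⟩, this.2⟩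
    · simp only [normalFrom, Bool.and_eq_true, Nat.ble_eq, Nat.blt_eq]
      exact ⟨⟨le_rfl, by omega⟩, ih (k + 1) (by omega) m hm⟩

theorem mem_nfs : ∀ d k : ℕ, k + d = P.n → ∀ l, P.normalFrom k l = true → l ∈ nfs k d := by
  intro d
  induction d with
  | zero =>
    intro k hk l hl
    cases l with
    | nil => simp [nfs]
    | cons a l =>
      simp only [normalFrom, Bool.and_eq_true, Nat.ble_eq, Nat.blt_eq] at hl
      omega
  | succ d ih =>
    intro k hk l hl
    simp only [nfs, List.mem_flatMap, List.mem_cons, List.not_mem_nil, or_false]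
    cases l with
    | nil => exact ⟨[], ih (k + 1) (by omega) [] rfl, Or.inl rfl⟩
    | cons a l =>
      simp only [normalFrom, Bool.and_eq_true, Nat.ble_eq, Nat.blt_eq] at hl
      rcases Nat.lt_or_eq_of_le hl.1.1 with hlt | rfl
      · exact ⟨a :: l, ih (k + 1) (by omega) _ (by simp [normalFrom, hl.2, hl.1.2, hlt]), Or.inl rfl⟩
      · exact ⟨l, ih (k + 1) (by omega) l hl.2, Or.inr rfl⟩

theorem cut_cons_lt {k x : ℕ} (l : List ℕ) (hx : x < k) : cut k (x :: l) = x :: cut k l := by
  unfold cut
  exact List.filter_cons_of_pos (by simpa using hx)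

theorem cut_cons_ge {k x : ℕ} (l : List ℕ) (hx : k ≤ x) : cut k (x :: l) = cut k l := by
  unfold cut
  exact List.filter_cons_of_neg (by simpa using hx)

section Full

variable (F : P.Full h)
include F

theorem rhs_square {i : ℕ} (hi : i < P.n) : ∀ x ∈ P.rhs i i, i < x ∧ x < P.n := by
  have hsh := List.all_eq_true.mp (List.all_eq_true.mp F.shape i (List.mem_range.mpr hi)) i (List.mem_range.mpr hi)
  rw [Bool.or_eq_true] at hsh
  rcases hsh with e | e
  · simp [Nat.blt] at e
  · rw [Nat.beq_refl, cond_true] at e
    intro x hx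
    simpa using List.all_eq_true.mp e x hx

theorem rhs_conj {i j : ℕ} (hij : i < j) (hj : j < P.n) :
    ∃ l, P.rhs i j = i :: j :: l ∧ ∀ x ∈ l, j < x ∧ x < P.n := by
  have hsh := List.all_eq_true.mp (List.all_eq_true.mp F.shape i (List.mem_range.mpr (by omega))) j
    (List.mem_range.mpr hj)
  have h1 : Nat.blt j i = false := by rw [← Bool.not_eq_true, Nat.blt_eq]; omega
  have h2 : Nat.beq j i = false := by
    rw [← Bool.not_eq_true]; intro e; have := Nat.eq_of_beq_eq_true e; omega
  rw [h1, Bool.false_or, h2, cond_false] at hsh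
  split at hsh
  · simp at hsh
  · simp at hsh
  · rename_i p q l hl
    simp only [Bool.and_eq_true, List.all_eq_true, Nat.blt_eq] at hsh
    exact ⟨l, by rw [hl, Nat.eq_of_beq_eq_true hsh.1.1, Nat.eq_of_beq_eq_true hsh.1.2], hsh.2⟩

theorem ev_mem_term {k : ℕ} {l : List ℕ} (hl : ∀ x ∈ l, k ≤ x ∧ x < P.n) : ev h l ∈ P.term h k :=
  list_prod_mem fun y hy => by
    obtain ⟨x, hx, rfl⟩ := List.mem_map.mp hy
    exact subset_closure ⟨x, hl x hx, rfl⟩

theorem term_normal [Finite G] (k : ℕ) : (P.term h k).Normal := by
  rw [← normalizer_eq_top_iff, eq_top_iff, ← F.top, closure_le]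
  rintro _ ⟨i, hi, rfl⟩
  have key : ∀ y ∈ P.term h k, (h i)⁻¹ * y * h i ∈ P.term h k := by
    intro y hy
    induction hy using closure_induction with
    | mem y hy =>
      obtain ⟨j, ⟨hj1, hj2⟩, rfl⟩ := hy
      rcases Nat.lt_trichotomy i j with hlt | rfl | hlt
      · obtain ⟨l, hl, hl'⟩ := rhs_conj F hlt hj2
        rw [mul_assoc, F.rels i j hlt.le hj2, hl, ev_cons, inv_mul_cancel_left]
        exact ev_mem_term F fun x hx => by
          rcases List.mem_cons.mp hx with rfl | hx
          · exact ⟨hj1, hj2⟩
          · exact ⟨hj1.trans (hl' x hx).1.le, (hl' x hx).2⟩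
      · rw [inv_mul_cancel, one_mul]
        exact subset_closure ⟨i, ⟨hj1, hj2⟩, rfl⟩
      · have hki : h i ∈ P.term h k := subset_closure ⟨i, ⟨by omega, hi⟩, rfl⟩
        exact mul_mem (mul_mem (inv_mem hki) (subset_closure ⟨j, ⟨hj1, hj2⟩, rfl⟩)) hki
    | one => simp
    | mul x y _ _ hx hy =>
      rw [show (h i)⁻¹ * (x * y) * h i = ((h i)⁻¹ * x * h i) * ((h i)⁻¹ * y * h i) by group]
      exact mul_mem hx hy
    | inv x _ hx =>
      rw [show (h i)⁻¹ * x⁻¹ * h i = ((h i)⁻¹ * x * h i)⁻¹ by group]
      exact inv_mem hx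
  have e : (P.term h k).map (MulAut.conj (h i)⁻¹).toMonoidHom = P.term h k := by
    refine Subgroup.eq_of_le_of_card_ge ?_ (by
      rw [Nat.card_congr ((P.term h k).equivMapOfInjective (MulAut.conj (h i)⁻¹).toMonoidHom (MulAut.conj (h i)⁻¹).injective).toEquiv])
    rintro _ ⟨y, hy, rfl⟩
    simpa using key y hy
  refine mem_normalizer_iff''.mpr fun y => ⟨key y, fun hy => ?_⟩
  obtain ⟨w, hw, e'⟩ := e.ge hy
  simp only [MulEquiv.coe_toMonoidHom, MulAut.conj_apply, inv_inv] at e'
  have : w = y := mul_left_cancel (mul_right_cancel e')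
  exact this ▸ hw

theorem exists_normal : ∀ d k : ℕ, k + d = P.n → ∀ x ∈ P.term h k, ∃ l, P.normalFrom k l = true ∧ x = ev h l := by
  intro d
  induction d with
  | zero =>
    intro k hk x hx
    rw [term, show {i | k ≤ i ∧ i < P.n} = (∅ : Set ℕ) by ext i; simp; omega, Set.image_empty, Subgroup.closure_empty,
      mem_bot] at hx
    exact ⟨[], rfl, by rw [hx, ev_nil]⟩
  | succ d ih =>
    intro k hk x hx
    set N := P.term h (k + 1)
    have hconj : ∀ y ∈ N, (h k)⁻¹ * y * h k ∈ N := by
      intro y hy
      induction hy using closure_induction with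
      | mem y hy =>
        obtain ⟨j, ⟨hj1, hj2⟩, rfl⟩ := hy
        obtain ⟨l, hl, hl'⟩ := rhs_conj F (show k < j by omega) hj2
        rw [mul_assoc, F.rels k j (by omega) hj2, hl, ev_cons, inv_mul_cancel_left]
        exact ev_mem_term F fun x hx => by
          rcases List.mem_cons.mp hx with rfl | hx
          · exact ⟨hj1, hj2⟩
          · exact ⟨hj1.trans (hl' x hx).1.le, (hl' x hx).2⟩
      | one => simp
      | mul x y _ _ hx hy =>
        rw [show (h k)⁻¹ * (x * y) * h k = ((h k)⁻¹ * x * h k) * ((h k)⁻¹ * y * h k) by group]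
        exact mul_mem hx hy
      | inv x _ hx =>
        rw [show (h k)⁻¹ * x⁻¹ * h k = ((h k)⁻¹ * x * h k)⁻¹ by group]
        exact inv_mem hx
    have hsq : h k * h k ∈ N := by
      rw [F.rels k k le_rfl (by omega)]
      exact ev_mem_term F fun x hx => ⟨(rhs_square F (by omega) x hx).1, (rhs_square F (by omega) x hx).2⟩
    have claim : ∀ x ∈ P.term h k, x ∈ N ∨ (h k)⁻¹ * x ∈ N := by
      intro x hx
      induction hx using closure_induction with
      | mem y hy =>
        obtain ⟨j, ⟨hj1, hj2⟩, rfl⟩ := hy
        rcases Nat.lt_or_eq_of_le hj1 with hlt | rfl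
        · exact Or.inl (subset_closure ⟨j, ⟨hlt, hj2⟩, rfl⟩)
        · exact Or.inr (by simp)
      | one => exact Or.inl (one_mem _)
      | mul a b _ _ ha hb =>
        rcases ha with ha | ha <;> rcases hb with hb | hb
        · exact Or.inl (mul_mem ha hb)
        · refine Or.inr ?_
          rw [show (h k)⁻¹ * (a * b) = ((h k)⁻¹ * a * h k) * ((h k)⁻¹ * b) by group]
          exact mul_mem (hconj a ha) hb
        · exact Or.inr (by rw [← mul_assoc]; exact mul_mem ha hb)
        · refine Or.inl ?_
          rw [show a * b = (h k * h k) * ((h k)⁻¹ * ((h k)⁻¹ * a) * h k * ((h k)⁻¹ * b)) by group]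
          exact mul_mem hsq (mul_mem (hconj _ ha) hb)
      | inv a _ ha =>
        rcases ha with ha | ha
        · exact Or.inl (inv_mem ha)
        · refine Or.inr ?_
          rw [show (h k)⁻¹ * a⁻¹ = ((h k)⁻¹ * ((h k)⁻¹ * a)⁻¹ * h k) * (h k * h k)⁻¹ by group]
          exact mul_mem (hconj _ (inv_mem ha)) (inv_mem hsq)
    rcases claim x hx with hx' | hx'
    · obtain ⟨l, hl, rfl⟩ := ih (k + 1) (by omega) x hx'
      refine ⟨l, ?_, rfl⟩
      cases l with
      | nil => rfl
      | cons a l =>
        simp only [normalFrom, Bool.and_eq_true, Nat.ble_eq, Nat.blt_eq] at hl ⊢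
        exact ⟨⟨by omega, hl.1.2⟩, hl.2⟩
    · obtain ⟨l, hl, e⟩ := ih (k + 1) (by omega) _ hx'
      exact ⟨k :: l, by simp [normalFrom, hl]; omega, by rw [ev_cons, ← e, mul_inv_cancel_left]⟩

theorem exists_nf (x : G) : ∃ l, P.normalFrom 0 l = true ∧ x = ev h l := by
  refine exists_normal F P.n 0 (by omega) x ?_
  rw [term, show {i | 0 ≤ i ∧ i < P.n} = {i | i < P.n} by ext i; simp, F.top]
  exact mem_top x

theorem nf_unique [Finite G] {a b : List ℕ} (ha : P.normalFrom 0 a = true) (hb : P.normalFrom 0 b = true)
    (e : ev h a = ev h b) : a = b := by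
  classical
  haveI := Fintype.ofFinite G
  set S := (nfs 0 P.n).toFinset
  have hsurj : Set.SurjOn (ev h) ↑S ↑(Finset.univ : Finset G) := fun x _ => by
    obtain ⟨l, hl, rfl⟩ := exists_nf F x
    exact ⟨l, by simpa [S] using mem_nfs P.n 0 (by omega) l hl, rfl⟩
  have hcard : S.card ≤ (Finset.univ : Finset G).card := by
    refine (List.toFinset_card_le _).trans ?_
    rw [nfs_length, Finset.card_univ, ← Nat.card_eq_fintype_card]
    exact F.card
  exact Finset.injOn_of_surjOn_of_card_le (ev h) (fun _ _ => Finset.mem_coe.mpr (Finset.mem_univ _)) hsurj hcard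
    (by simpa [S] using mem_nfs P.n 0 (by omega) a ha) (by simpa [S] using mem_nfs P.n 0 (by omega) b hb) e

theorem run_eq {w y : List ℕ} (hw : ∀ a ∈ w, a < P.n) (e : P.run w = some y) : ev h w = ev h y := by
  simpa using col_sound F.rels 20000 [] w y (by simp) hw F.shape e

theorem same_eq {v w : List ℕ} (hv : ∀ a ∈ v, a < P.n) (hw : ∀ a ∈ w, a < P.n) (e : P.same v w = true) :
    ev h v = ev h w := by
  rw [same] at e
  split at e
  · rename_i a b ha hb
    rw [run_eq F hv ha, run_eq F hw hb, of_decide_eq_true e]
  · simp at e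

theorem cut_spec {k j : ℕ} {l : List ℕ} (hl : P.normalFrom j l = true) :
    P.normalFrom j (cut k l) = true ∧ (ev h (cut k l))⁻¹ * ev h l ∈ P.term h k := by
  induction l generalizing j with
  | nil => exact ⟨rfl, by simp [cut, ev_nil]⟩
  | cons x l ih =>
    simp only [normalFrom, Bool.and_eq_true, Nat.ble_eq, Nat.blt_eq] at hl
    obtain ⟨h1, h2⟩ := ih hl.2
    by_cases hx : x < k
    · have : cut k (x :: l) = x :: cut k l := cut_cons_lt l hx
      rw [this, ev_cons, ev_cons]
      exact ⟨by simp [normalFrom, h1, hl.1.1, hl.1.2], by simpa [mul_assoc] using h2⟩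
    · have hall : ∀ y ∈ x :: l, k ≤ y ∧ y < P.n := by
        intro y hy
        rcases List.mem_cons.mp hy with rfl | hy
        · exact ⟨by omega, hl.1.2⟩
        · have := normalFrom_lt hl.2 y hy; omega
      have : cut k (x :: l) = [] := List.filter_eq_nil_iff.mpr fun y hy => by
        rw [Nat.blt_eq]; have := hall y hy; omega
      rw [this, ev_nil, inv_one, one_mul]
      exact ⟨rfl, ev_mem_term F hall⟩

theorem cut_eq [Finite G] {k : ℕ} {a b : List ℕ} (ha : P.normalFrom 0 a = true) (hb : P.normalFrom 0 b = true)
    (e : (ev h a)⁻¹ * ev h b ∈ P.term h k) : cut k a = cut k b := by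
  obtain ⟨na, ea⟩ := cut_spec F (k := k) ha
  obtain ⟨nb, eb⟩ := cut_spec F (k := k) hb
  have hd : (ev h (cut k a))⁻¹ * ev h (cut k b) ∈ P.term h k := by
    rw [show (ev h (cut k a))⁻¹ * ev h (cut k b) = ((ev h (cut k a))⁻¹ * ev h a) * ((ev h a)⁻¹ * ev h b) *
      ((ev h (cut k b))⁻¹ * ev h b)⁻¹ by group]
    exact mul_mem (mul_mem ea e) (inv_mem eb)
  by_cases hk : P.n ≤ k
  · refine nf_unique F na nb (inv_mul_eq_one.mp ?_)
    rwa [term, show {i | k ≤ i ∧ i < P.n} = (∅ : Set ℕ) by ext i; simp; omega, Set.image_empty, Subgroup.closure_empty,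
      mem_bot] at hd
  push Not at hk
  obtain ⟨l, hl, el⟩ := exists_normal F (P.n - k) k (by omega) _ hd
  have hcat : ∀ {j : ℕ} {u : List ℕ}, j ≤ k → P.normalFrom j u = true → (∀ y ∈ u, y < k) →
      P.normalFrom j (u ++ l) = true := by
    intro j u
    induction u generalizing j with
    | nil =>
      intro hj _ _
      cases l with
      | nil => rfl
      | cons y l =>
        simp only [List.nil_append, normalFrom, Bool.and_eq_true, Nat.ble_eq, Nat.blt_eq] at hl ⊢
        exact ⟨⟨by omega, hl.1.2⟩, hl.2⟩
    | cons y u ih =>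
      intro hj hu hlt
      simp only [List.cons_append, normalFrom, Bool.and_eq_true, Nat.ble_eq, Nat.blt_eq] at hu ⊢
      exact ⟨hu.1, ih (hlt y (List.mem_cons_self ..)) hu.2 fun z hz => hlt z (List.mem_cons_of_mem _ hz)⟩
  have hlt : ∀ (u : List ℕ), ∀ y ∈ cut k u, y < k := fun u y hy => Nat.blt_eq.mp (List.mem_filter.mp hy).2
  have := nf_unique F nb (hcat (Nat.zero_le k) na (hlt a)) (by rw [ev_append, ← el, mul_inv_cancel_left])
  have hl0 : l = [] := by
    by_contra hne
    obtain ⟨y, hy⟩ := List.exists_mem_of_ne_nil l hne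
    have h1 := hlt b y (by rw [this]; exact List.mem_append_right _ hy)
    have h2 := (normalFrom_lt hl y hy).1
    omega
  rw [this, hl0, List.append_nil]

theorem cut_all {k : ℕ} {l : List ℕ} (hk : P.n ≤ k) (hl : P.normalFrom 0 l = true) : cut k l = l :=
  List.filter_eq_self.mpr fun y hy => Nat.blt_eq.mpr ((normalFrom_lt hl y hy).2.trans_le hk)

omit F in
theorem cut_succ {k : ℕ} : ∀ {j : ℕ} {l : List ℕ}, P.normalFrom j l = true →
    cut (k + 1) l = cut k l ∨ cut (k + 1) l = cut k l ++ [k] := by
  intro j l
  induction l generalizing j with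
  | nil => exact fun _ => Or.inl rfl
  | cons x l ih =>
    intro hl
    simp only [normalFrom, Bool.and_eq_true, Nat.ble_eq, Nat.blt_eq] at hl
    have hnil : ∀ q, q ≤ x + 1 → cut q l = [] := fun q hq => List.filter_eq_nil_iff.mpr fun y hy => by
      rw [Nat.blt_eq]; have := (normalFrom_lt hl.2 y hy).1; omega
    rcases Nat.lt_trichotomy x k with hx | rfl | hx
    · rw [cut_cons_lt l (by omega), cut_cons_lt l hx]
      rcases ih hl.2 with h' | h' <;> simp [h']
    · refine Or.inr ?_
      rw [cut_cons_lt l (Nat.lt_succ_self x), cut_cons_ge l le_rfl, hnil _ le_rfl, hnil _ (by omega)]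
      rfl
    · refine Or.inl ?_
      rw [cut_cons_ge l (by omega), cut_cons_ge l hx.le, hnil _ (by omega), hnil _ (by omega)]

/-- An element all of whose prefixes pass a test is found by the tree. -/
theorem mem_tree {test : ℕ → List ℕ → Bool} {l : List ℕ} (hl : P.normalFrom 0 l = true)
    (ht : ∀ k, test k (cut k l) = true) : l ∈ tree test P.n := by
  suffices ∀ k, cut k l ∈ tree test k by
    have := this P.n
    rwa [cut_all F le_rfl hl] at this
  intro k
  induction k with
  | zero => simp [tree, cut, Nat.blt]
  | succ k ih =>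
    refine List.mem_flatMap.mpr ⟨cut k l, ih, List.mem_filter.mpr ⟨?_, ht (k + 1)⟩⟩
    rcases cut_succ (k := k) hl with e | e <;> simp [e]

theorem lt_of_nf {l : List ℕ} (hl : P.normalFrom 0 l = true) {k : ℕ} : ∀ a ∈ cut k l, a < P.n :=
  fun a ha => (normalFrom_lt hl a (List.mem_filter.mp ha).1).2

theorem liesIn_true [Finite G] {k : ℕ} {w : List ℕ} (hw : ∀ a ∈ w, a < P.n) (e : ev h w ∈ P.term h k) :
    P.liesIn k w = true := by
  rw [liesIn]
  split
  · rename_i y hy
    cases hn : P.normalFrom 0 y with
    | false => rfl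
    | true =>
      rw [Bool.not_true, Bool.false_or, List.all_eq_true]
      intro x hx
      have hc : cut k ([] : List ℕ) = cut k y :=
        cut_eq F rfl hn (by rwa [ev_nil, inv_one, one_mul, ← run_eq F hw hy])
      rw [Nat.ble_eq]
      by_contra hlt
      have : x ∈ cut k y := List.mem_filter.mpr ⟨hx, Nat.blt_eq.mpr (by omega)⟩
      rw [← hc] at this
      simp [cut] at this
  · rfl

theorem agree_true [Finite G] {k : ℕ} {v w : List ℕ} (hv : ∀ a ∈ v, a < P.n) (hw : ∀ a ∈ w, a < P.n)
    (e : (ev h v)⁻¹ * ev h w ∈ P.term h k) : P.agree k v w = true := by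
  rw [agree]
  split
  · rename_i a b ha hb
    cases hn : (P.normalFrom 0 a && P.normalFrom 0 b) with
    | false => rfl
    | true =>
      rw [Bool.and_eq_true] at hn
      rw [Bool.not_true, Bool.false_or, decide_eq_true_eq]
      exact cut_eq F hn.1 hn.2 (by rwa [← run_eq F hv ha, ← run_eq F hw hb])
  · rfl

end Full

end Pres

end CfsgLib.StdRu
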